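import Groth.Agent.L16.Existence.Graded
import Groth.Agent.L16.ProjSpace.SerreVanishing
import Groth.Agent.L16.ProjSpace.BaseChange
import Groth.Agent.L17.ProjFormula
import Groth.Agent.L17.AffinePush

/-!
Uniform vanishing for the graded pieces of a coherent formal module on projective space.
-/

set_option autoImplicit false
set_option linter.style.haveILetI false
set_option backward.isDefEq.respectTransparency false
set_option backward.isDefEq.respectTransparency.types false

universe u

open CategoryTheory CategoryTheory.Limits AlgebraicGeometry TopologicalSpace Opposite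

noncomputable section

namespace Groth.L16.Existence

open AffineBC (Xb gb)

/-- Invertible modules are finite locally free. -/
theorem isFinLocFree_of_isInvertible {Y : Scheme.{u}} {L : Y.Modules} (h : PicF.IsInvertible L) :
    FlatMod.IsFinLocFree L := fun y => by
  obtain ⟨U, hy, ⟨e⟩⟩ := h y
  refine ⟨U, 1, hy, ⟨e ≪≫ ?_⟩⟩
  exact
    { hom := Sigma.ι (fun _ : Fin 1 => Coh.structureModule (↑U)) 0
      inv := Sigma.desc fun _ => 𝟙 _
      hom_inv_id := Sigma.ι_desc _ _
      inv_hom_id := Sigma.hom_ext _ _ fun b => by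
        rw [Subsingleton.elim b 0, Sigma.ι_desc_assoc, Category.id_comp, Category.comp_id] }

/-- A retract of a module with no cohomology has none. -/
theorem subsingleton_of_retract {Y : Scheme.{u}} {K M : Y.Modules} (i : K ⟶ M) (p : M ⟶ K) (h : i ≫ p = 𝟙 K)
    (q : ℕ) (hM : Subsingleton (Coh.HH Y M q)) : Subsingleton (Coh.HH Y K q) := by
  refine ⟨fun x y => ?_⟩
  rw [← CohLinear.hmap_id q x, ← CohLinear.hmap_id q y, ← h, CohLinear.hmap_comp, CohLinear.hmap_comp,
    hM.elim (CohLinear.hmap i q x) (CohLinear.hmap i q y)]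

variable {A : Type u} [CommRing A] [IsNoetherianRing A] (n : ℕ)

/-- Uniform vanishing for the direct summands of one coherent module over a polynomial base change. -/
theorem exists_uniform_vanishing [(CohB1.ProjSpace n A).Over (Spec (CommRingCat.of A))]
    (hP : (CohB1.ProjSpace n A ↘ Spec (CommRingCat.of A)) = CohB1.ProjSpace.toSpec n A) {r : ℕ}
    (M : (Xb A (MvPolynomial (Fin r) A) (CohB1.ProjSpace n A)).Modules) (hM : Coh.IsCoh M)
    {ι : Type*} (K : ι → (CohB1.ProjSpace n A).Modules)
    (hret : ∀ m, ∃ (i : K m ⟶ (Coh.push (gb A (MvPolynomial (Fin r) A) (CohB1.ProjSpace n A))).obj M)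
      (p : _ ⟶ K m), i ≫ p = 𝟙 _) :
    ∃ d₀ : ℕ, ∀ d : ℕ, d₀ ≤ d → ∀ (m : ι) (q : ℕ), 0 < q →
      Subsingleton (Coh.HH (CohB1.ProjSpace n A)
        (CohB1.tensorMod (Twist.twistProjSpace n A (d : ℤ)) (K m)) q) := by
  let B := MvPolynomial (Fin r) A
  let φ : A →+* B := algebraMap A B
  let f := ProjSpace.map n φ
  have hsq : IsPullback (ProjSpace.map n φ) (CohB1.ProjSpace.toSpec n B)
      (CohB1.ProjSpace n A ↘ Spec (CommRingCat.of A)) (Spec.map (CommRingCat.ofHom φ)) := by
    rw [hP]; exact ProjSpace.isPullback_map n φ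
  let θ := hsq.isoPullback
  have hθ : θ.inv ≫ f = gb A B (CohB1.ProjSpace n A) := hsq.isoPullback_inv_fst
  haveI : IsAffineHom f := MorphismProperty.of_isPullback hsq.flip inferInstance
  let M' : (CohB1.ProjSpace n B).Modules := (Coh.push θ.inv).obj M
  have hM' : Coh.IsCoh M' := CohClosedPush.isCoh_push θ.inv hM
  obtain ⟨d₀, hd⟩ := ProjSpace.exists_vanishing n B M' hM'
  refine ⟨d₀, fun d hd' m q hq => ?_⟩
  obtain ⟨i, p, hip⟩ := hret m
  let O := Twist.twistProjSpace n A (d : ℤ)
  have hO : FlatMod.IsFinLocFree O :=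
    isFinLocFree_of_isInvertible (ProjTwist.isInvertible_twistProjSpace n A (d : ℤ))
  let T := Groth.L00.Tensor.tensorLeftF O
  refine subsingleton_of_retract (T.map i) (T.map p) (by rw [← T.map_comp, hip, CategoryTheory.Functor.map_id]) q ?_
  let e₁ : (Coh.push (gb A B (CohB1.ProjSpace n A))).obj M ≅ (Coh.push f).obj M' :=
    (Scheme.Modules.pushforwardCongr hθ.symm).app M ≪≫
      ((Scheme.Modules.pushforwardComp θ.inv f).app M).symm
  let e₂ : T.obj ((Coh.push f).obj M') ≅
      (Coh.push f).obj (CohB1.tensorMod ((Scheme.Modules.pullback f).obj O) M') :=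
    (Groth.L17.ProjFormula.projIso f O hO).app M'
  refine ProjSpace.subsingleton_of_iso (T.mapIso e₁ ≪≫ e₂) q ?_
  haveI : Coh.IsQCoh M' := hM'.1
  haveI : Coh.IsQCoh O := ProjTwist.isQCoh_twist (CohB1.polyGrading n A) d
  haveI := AffineBC.isQCoh_pullback f O
  haveI := Groth.L00.Tensor.isQCoh_tensorMod ((Scheme.Modules.pullback f).obj O) M'
  obtain ⟨e₃⟩ := Groth.L17.nonempty_HH_push_of_isAffineHom f
    (CohB1.tensorMod ((Scheme.Modules.pullback f).obj O) M') q
  obtain ⟨e₄⟩ := ProjSpace.nonempty_pullback_twist_iso n φ d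
  haveI : Subsingleton (Coh.HH (CohB1.ProjSpace n B) (CohB1.tensorMod ((Scheme.Modules.pullback f).obj O) M') q) :=
    ProjSpace.subsingleton_of_iso ((Groth.L00.Tensor.tensorRightF M').mapIso e₄) q (hd d hd' q hq)
  exact e₃.symm.toEquiv.subsingleton

end Groth.L16.Existence
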