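import Groth.Agent.L00.TensorColim
import Groth.Agent.L17.ChangeRings
import Groth.Agent.L16.CohLinear
import Groth.Agent.L16.HomSh.FullyFaithful
import Groth.Agent.L16.ProjSpace.AmpleIff

/-!
Tensoring with an invertible module is an equivalence; lifting maps out of its inverse.
-/

set_option autoImplicit false
set_option linter.style.haveILetI false
set_option backward.isDefEq.respectTransparency false
set_option backward.isDefEq.respectTransparency.types false

universe u

open CategoryTheory CategoryTheory.Limits MonoidalCategory AlgebraicGeometry TopologicalSpace Opposite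

noncomputable section

namespace Groth.L16.Existence

open Groth.L00.Tensor

variable {X : Scheme.{u}}

theorem tensorUnitLeft_natural {M N : X.Modules} (f : M ⟶ N) :
    (tensorLeftF (Coh.structureModule X)).map f ≫ (tensorUnitLeft N).hom = (tensorUnitLeft M).hom ≫ f := by
  have hc : (shf X).map ((preF X).map f) ≫ (counitIso N).hom = (counitIso M).hom ≫ f :=
    (PresheafOfModules.sheafificationAdjunction (𝟙 X.ringCatSheaf.obj)).counit.naturality f
  have h0 : (𝟙 (𝟙_ (PX X)) ⊗ₘ (preF X).map f) ≫ (λ_ (pre N)).hom = (λ_ (pre M)).hom ≫ (preF X).map f := by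
    rw [id_tensorHom, leftUnitor_naturality]
    rfl
  have h1 := congrArg (shf X).map h0
  rw [Functor.map_comp, Functor.map_comp] at h1
  have h2 : (tensorLeftF (Coh.structureModule X)).map f = (shf X).map (𝟙 (𝟙_ (PX X)) ⊗ₘ (preF X).map f) :=
    congrArg (fun t => (shf X).map (t ⊗ₘ (preF X).map f)) ((preF X).map_id _)
  calc (tensorLeftF (Coh.structureModule X)).map f ≫ (tensorUnitLeft N).hom
      = ((shf X).map (𝟙 (𝟙_ (PX X)) ⊗ₘ (preF X).map f) ≫ (shf X).map (λ_ (pre N)).hom) ≫ (counitIso N).hom :=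
        (congrArg (fun t => t ≫ (tensorUnitLeft N).hom) h2).trans (Category.assoc _ _ _).symm
    _ = (shf X).map (λ_ (pre M)).hom ≫ ((shf X).map ((preF X).map f) ≫ (counitIso N).hom) := by
        rw [h1]; exact Category.assoc _ _ _
    _ = (shf X).map (λ_ (pre M)).hom ≫ ((counitIso M).hom ≫ f) := by rw [hc]
    _ = (tensorUnitLeft M).hom ≫ f := (Category.assoc _ _ _).symm

/-- Tensoring with the structure module does nothing. -/
def unitLeftIso : tensorLeftF (Coh.structureModule X) ≅ 𝟭 X.Modules :=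
  NatIso.ofComponents (fun M => tensorUnitLeft M) (fun f => tensorUnitLeft_natural f)

/-- An isomorphism of modules gives an isomorphism of tensor functors. -/
def leftFIso {L L' : X.Modules} (e : L ≅ L') : tensorLeftF L ≅ tensorLeftF L' :=
  NatIso.ofComponents (fun M => tensorIso e (Iso.refl M)) (fun {M N} f => by
    show tensorMap (𝟙 L) f ≫ tensorMap e.hom (𝟙 N) = tensorMap e.hom (𝟙 M) ≫ tensorMap (𝟙 L') f
    rw [← tensorMap_comp, ← tensorMap_comp, Category.id_comp, Category.id_comp, Category.comp_id,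
      Category.comp_id])

/-- Composite of two tensor functors. -/
def compIso (E F : X.Modules) (e : CohB1.tensorMod E F ≅ Coh.structureModule X) :
    tensorLeftF F ⋙ tensorLeftF E ≅ 𝟭 X.Modules :=
  Functor.isoWhiskerRight (tensorFlipIso F).symm (tensorLeftF E) ≪≫ Groth.L17.ChangeRings.tripleIso E F ≪≫
    tensorFlipIso _ ≪≫ leftFIso e ≪≫ unitLeftIso

/-- Tensoring with an invertible module is an equivalence. -/
theorem isEquivalence (L L' : X.Modules) (e : CohB1.tensorMod L L' ≅ Coh.structureModule X) :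
    (tensorLeftF L).IsEquivalence :=
  (CategoryTheory.Equivalence.mk (tensorLeftF L) (tensorLeftF L')
    (compIso L' L (tensorComm L' L ≪≫ e)).symm (compIso L L' e)).isEquivalence_functor

/-- Maps out of the structure module lift when the obstruction vanishes. -/
theorem exists_lift_structure {S : ShortComplex X.Modules} (hS : S.ShortExact)
    (h : Subsingleton (Coh.HH X S.X₁ 1)) (u : Coh.structureModule X ⟶ S.X₃) :
    ∃ v : Coh.structureModule X ⟶ S.X₂, v ≫ S.g = u := by
  let s : Γ(S.X₃, ⊤) := u.app ⊤ (1 : Γ(X, ⊤))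
  obtain ⟨y, hy⟩ := (CohLinear.exact_hmap_delta hS 0 ((HomSh.h0Equiv S.X₃).symm s)).1 (h.elim _ _)
  refine ⟨homOfSection S.X₂ (HomSh.h0Equiv S.X₂ y), sub_eq_zero.1
    (Groth.L16.eq_zero_of_app_top_eq_zero _ ?_)⟩
  show S.g.app ⊤ ((homOfSection S.X₂ _).app ⊤ (1 : Γ(X, ⊤))) - u.app ⊤ (1 : Γ(X, ⊤)) = 0
  rw [homOfSection_app, one_smul, sub_eq_zero, show (homOfLE (le_top : (⊤ : X.Opens) ≤ ⊤)).op = 𝟙 (op ⊤) from rfl,
    CategoryTheory.Functor.map_id]
  refine (HomSh.h0Equiv_map S.g y).symm.trans ?_
  refine (congrArg (HomSh.h0Equiv S.X₃) hy).trans ?_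
  exact AddEquiv.apply_symm_apply _ _

/-- Maps out of finite sums of an invertible module lift along an epimorphism. -/
theorem exists_lift (L L' : X.Modules) (e : CohB1.tensorMod L L' ≅ Coh.structureModule X) {k : ℕ}
    {Y' Y : X.Modules} (τ : Y' ⟶ Y) [Epi τ]
    (h : Subsingleton (Coh.HH X (CohB1.tensorMod L (kernel τ)) 1))
    (u : (∐ fun _ : Fin k => L') ⟶ Y) : ∃ u' : (∐ fun _ : Fin k => L') ⟶ Y', u' ≫ τ = u := by
  haveI := isEquivalence L L' e
  let T := tensorLeftF L
  have one : ∀ u : L' ⟶ Y, ∃ u' : L' ⟶ Y', u' ≫ τ = u := by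
    intro u
    let S : ShortComplex X.Modules := ShortComplex.mk (kernel.ι τ) τ (kernel.condition τ)
    have hS : S.ShortExact := { exact := ShortComplex.exact_kernel τ, epi_g := ‹Epi τ› }
    haveI : T.PreservesZeroMorphisms := Functor.preservesZeroMorphisms_of_isLeftAdjoint T
    have hT : (S.map T).ShortExact := hS.map_of_exact T
    obtain ⟨v, hv⟩ := exists_lift_structure hT h (e.inv ≫ T.map u)
    obtain ⟨u', hu'⟩ := T.map_surjective (e.hom ≫ v : T.obj L' ⟶ T.obj Y')
    refine ⟨u', T.map_injective ?_⟩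
    rw [T.map_comp, hu', Category.assoc]
    exact (congrArg (e.hom ≫ ·) hv).trans (e.hom_inv_id_assoc _)
  choose w hw using fun j : Fin k => one (Sigma.ι (fun _ : Fin k => L') j ≫ u)
  refine ⟨Sigma.desc w, Sigma.hom_ext _ _ fun j => ?_⟩
  rw [Sigma.ι_desc_assoc, hw]

end Groth.L16.Existence
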