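import Groth.Agent.L16.HomSh.ModPowSect
import Groth.Agent.L16.Rees.Setup
import Groth.Agent.L16.Devissage
import Mathlib.Algebra.Category.ModuleCat.Biproducts
import Mathlib.RingTheory.Finiteness.Basic
import Mathlib.RingTheory.MvPolynomial.Homogeneous

/-!
Auxiliary lemmas for the existence theorem: finite sums, functionals on base changes, descent through a direct image.
-/

set_option autoImplicit false
set_option linter.style.haveILetI false
set_option backward.isDefEq.respectTransparency false
set_option backward.isDefEq.respectTransparency.types false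

universe u

open CategoryTheory CategoryTheory.Limits AlgebraicGeometry TopologicalSpace Opposite
open scoped TensorProduct

noncomputable section

namespace Groth.L16.Existence

open Formal (smulMod)
open AffineBC (gb η β scal)

/-- Finite sums of coherent modules are coherent. -/
theorem isCoh_sigma {X : Scheme.{u}} [IsLocallyNoetherian X] {ι : Type} [Finite ι] (M : ι → X.Modules)
    (hM : ∀ i, Coh.IsCoh (M i)) : Coh.IsCoh (∐ M) := by
  refine CohKernel.isCoh_of_tilde_charts _ fun x => ?_
  obtain ⟨_, ⟨U, hU, rfl⟩, hxU, -⟩ :=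
    X.isBasis_affineOpens.exists_subset_of_mem_open (Set.mem_univ x) isOpen_univ
  let j := hU.fromSpec
  haveI : ∀ i, Coh.IsQCoh (M i) := fun i => (hM i).1
  choose N hN using fun i => Groth.L00.Local.exists_tilde_iso_restrict j (M i)
  haveI : ∀ i, Module.Finite Γ(X, U) (N i) := fun i =>
    CohKernel.finite_of_tilde_iso (M i) (hM i).2 j (N i) (hN i).some
  haveI : PreservesColimitsOfSize.{u, u} (Scheme.Modules.restrictFunctor j) :=
    (Scheme.Modules.restrictAdjunction j).leftAdjoint_preservesColimits
  haveI : PreservesColimitsOfSize.{0, 0} (Scheme.Modules.restrictFunctor j) :=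
    preservesColimitsOfSize_shrink.{0, u, 0, u} _
  haveI : PreservesColimitsOfSize.{u, u} (tilde.functor Γ(X, U)) :=
    tilde.adjunction.leftAdjoint_preservesColimits
  haveI : PreservesColimitsOfSize.{0, 0} (tilde.functor Γ(X, U)) :=
    preservesColimitsOfSize_shrink.{0, u, 0, u} _
  refine ⟨_, j, inferInstance, ∐ N, hU.opensRange_fromSpec.ge hxU, ?_, ⟨?_⟩⟩
  · exact Module.Finite.equiv ((biproduct.isoCoproduct N).symm ≪≫ ModuleCat.biproductIsoPi N).toLinearEquiv.symm
  · exact PreservesCoproduct.iso (Scheme.Modules.restrictFunctor j) M ≪≫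
      Sigma.mapIso (fun i => (hN i).some) ≪≫ (PreservesCoproduct.iso (tilde.functor Γ(X, U)) N).symm

/-- A functional on the coefficient algebra gives a projection of `g_* g^* F`. -/
theorem exists_functional {A : Type u} [CommRing A] (B : Type u) [CommRing B] [Algebra A B] {X : Scheme.{u}}
    [X.Over (Spec (CommRingCat.of A))] (F : X.Modules) [Coh.IsQCoh F] (lam : B →ₗ[A] A) :
    ∃ c : AffineBC.G A B X F ⟶ F, ∀ b : B, η A B X F ≫ β A B X F b ≫ c = smulMod A F (lam b) := by
  classical
  have ex : ∀ (U : X.Opens) (_ : IsAffineOpen U), ∃ cU : Γ(AffineBC.G A B X F, U) →+ Γ(F, U),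
      ∀ (b : B) (m : Γ(F, U)), cU ((β A B X F b).app U ((η A B X F).app U m)) =
        (smulMod A F (lam b)).app U m := by
    intro U hU
    letI : Module A Γ(F, U) := Module.compHom Γ(F, U) (scal A X U)
    obtain ⟨E, hE⟩ := AffineBC.exists_equiv A B X F hU
    let L : B ⊗[A] Γ(F, U) →ₗ[A] Γ(F, U) :=
      TensorProduct.lift ((LinearMap.lsmul A Γ(F, U)).comp lam)
    refine ⟨L.toAddMonoidHom.comp E.symm.toAddMonoidHom, fun b m => ?_⟩
    show L (E.symm _) = _
    rw [← hE b m, AddEquiv.symm_apply_apply]
    exact (TensorProduct.lift.tmul _ _).trans (Rees.smulModΓ_app F _ U m).symm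
  choose cU hcU using ex
  have gen : ∀ (U : X.Opens) (_ : IsAffineOpen U) (P : Γ(AffineBC.G A B X F, U) → Prop), P 0 →
      (∀ a b, P a → P b → P (a + b)) →
      (∀ b m, P ((β A B X F b).app U ((η A B X F).app U m))) → ∀ t, P t := by
    intro U hU P h0 hadd hb t
    letI : Module A Γ(F, U) := Module.compHom Γ(F, U) (scal A X U)
    obtain ⟨E, hE⟩ := AffineBC.exists_equiv A B X F hU
    obtain ⟨s, rfl⟩ := E.surjective t
    induction s using TensorProduct.induction_on with
    | zero => rwa [map_zero]
    | add x y hx hy => rw [map_add]; exact hadd _ _ hx hy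
    | tmul b m => rw [hE]; exact hb b m
  obtain ⟨c, hc⟩ := AffineBC.exists_hom_affine cU (fun U V hU hV h m => by
    refine gen U hU (fun m => cU V hV ((AffineBC.G A B X F).presheaf.map (homOfLE h).op m) =
      F.presheaf.map (homOfLE h).op (cU U hU m)) ?_ ?_ ?_ m
    · rw [map_zero, map_zero, map_zero, map_zero]
    · intro a b ha hb
      rw [map_add, map_add, ha, hb, map_add, map_add]
    · intro b m
      have n1 := ConcreteCategory.congr_hom ((η A B X F ≫ β A B X F b).mapPresheaf.naturality (homOfLE h).op) m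
      have n2 := ConcreteCategory.congr_hom ((smulMod A F (lam b)).mapPresheaf.naturality (homOfLE h).op) m
      refine (congrArg (cU V hV) n1.symm).trans ?_
      refine (hcU V hV b _).trans ?_
      refine n2.trans ?_
      exact congrArg (F.presheaf.map (homOfLE h).op) (hcU U hU b m).symm) (fun U hU r m => by
    refine gen U hU (fun m => cU U hU (r • m) = r • cU U hU m) ?_ ?_ ?_ m
    · rw [smul_zero, map_zero, smul_zero]
    · intro a b ha hb
      rw [smul_add, map_add, ha, hb, map_add, smul_add]
    · intro b m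
      rw [← (β A B X F b).app_smul, ← (η A B X F).app_smul, hcU, hcU]
      exact (smulMod A F (lam b)).app_smul r m)
  exact ⟨c, fun b => AffineBC.hom_ext_affine _ _ fun U hU m => (hc U hU _).trans (hcU U hU b m)⟩

/-- A morphism killing `g_* φ` factors through `g_* (coker φ)`. -/
theorem exists_desc_push {X' X : Scheme.{u}} [IsLocallyNoetherian X'] (g : X' ⟶ X) [IsAffineHom g]
    {F H : X'.Modules} (hF : Coh.IsCoh F) (hH : Coh.IsCoh H) (φ : F ⟶ H) {T : X.Modules}
    (ψ : (Coh.push g).obj H ⟶ T) (h0 : (Coh.push g).map φ ≫ ψ = 0) :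
    ∃ ψ' : (Coh.push g).obj (cokernel φ) ⟶ T, (Coh.push g).map (cokernel.π φ) ≫ ψ' = ψ := by
  classical
  haveI : Coh.IsQCoh F := hF.1
  haveI : Coh.IsQCoh H := hH.1
  haveI : Coh.IsQCoh (cokernel φ) := (CohKernel.isCoh_kernel_cokernel hF hH φ).2.1
  let q := (Coh.push g).map (cokernel.π φ)
  have hker : ∀ (U : X.Opens) (_ : IsAffineOpen U) (a b : Γ((Coh.push g).obj H, U)),
      q.app U a = q.app U b → ψ.app U a = ψ.app U b := by
    intro U hU a b hab
    obtain ⟨y, hy⟩ := HomSh.exists_of_cokernel_app_eq_zero hF hH φ (hU.preimage g)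
      (x := (show Γ(H, g ⁻¹ᵁ U) from a - b)) ((map_sub _ _ _).trans (sub_eq_zero.2 hab))
    rw [← sub_eq_zero, ← map_sub]
    refine (congrArg (ψ.app U) hy.symm).trans ?_
    exact ConcreteCategory.congr_hom (congrArg (fun t => Scheme.Modules.Hom.app t U) h0) y
  choose pre hpre using fun (U : X.Opens) (hU : IsAffineOpen U) =>
    AffineBC.surjective_app_of_epi (cokernel.π φ) (hU.preimage g)
  have hval : ∀ (U : X.Opens) (hU : IsAffineOpen U) (x : Γ((Coh.push g).obj H, U)),
      ψ.app U (pre U hU (q.app U x)) = ψ.app U x := fun U hU x => hker U hU _ _ (hpre U hU _)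
  obtain ⟨ψ', hψ'⟩ := AffineBC.exists_hom_affine
    (fun U hU => AddMonoidHom.mk' (fun z : Γ((Coh.push g).obj (cokernel φ), U) => ψ.app U (pre U hU z))
      fun z w => by
        rw [← map_add]
        refine hker U hU _ _ ?_
        exact (hpre U hU _).trans (((map_add (q.app U).hom _ _).trans (congrArg₂ (· + ·) (hpre U hU z) (hpre U hU w))).symm))
    (fun U V hU hV h m => by
      show ψ.app V (pre V hV _) = T.presheaf.map (homOfLE h).op (ψ.app U (pre U hU m))
      refine Eq.trans ?_ (ConcreteCategory.congr_hom (ψ.mapPresheaf.naturality (homOfLE h).op) _)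
      refine hker V hV _ _ ((hpre V hV _).trans ?_)
      refine Eq.trans ?_ (ConcreteCategory.congr_hom (q.mapPresheaf.naturality (homOfLE h).op) _).symm
      exact congrArg _ (hpre U hU m).symm)
    (fun U hU r m => by
      show ψ.app U (pre U hU (r • m)) = r • ψ.app U (pre U hU m)
      rw [← Scheme.Modules.Hom.app_smul]
      refine hker U hU _ _ ((hpre U hU _).trans ?_)
      rw [Scheme.Modules.Hom.app_smul]
      exact congrArg _ (hpre U hU m).symm)
  refine ⟨ψ', AffineBC.hom_ext_affine _ _ fun U hU m => ?_⟩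
  exact (hψ' U hU _).trans (hval U hU m)

/-- Direct images along affine morphisms keep epimorphisms of quasi-coherent modules. -/
theorem epi_push {X' X : Scheme.{u}} (g : X' ⟶ X) [IsAffineHom g]
    {F H : X'.Modules} (hF : Coh.IsCoh F) (hH : Coh.IsCoh H) (q : F ⟶ H) [Epi q] :
    Epi ((Coh.push g).map q) :=
  ⟨fun u v h => AffineBC.hom_ext_affine _ _ fun U hU m => by
    haveI : Coh.IsQCoh F := hF.1
    haveI : Coh.IsQCoh H := hH.1
    obtain ⟨y, rfl⟩ := AffineBC.surjective_app_of_epi q (hU.preimage g) m
    exact ConcreteCategory.congr_hom (congrArg (fun t => Scheme.Modules.Hom.app t U) h) y⟩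

section Monomials

variable {A : Type u} [CommRing A] {r : ℕ} (a : Fin r → A)

/-- Evaluation of a monomial at the generators. -/
def aE (e : Fin r →₀ ℕ) : A := e.prod fun i k => a i ^ k

theorem aE_add (e e' : Fin r →₀ ℕ) : aE a (e + e') = aE a e * aE a e' :=
  Finsupp.prod_add_index' (fun i => pow_zero _) (fun i m n => pow_add _ _ _)

theorem aE_single (i : Fin r) : aE a (Finsupp.single i 1) = a i := by
  simp [aE]

variable {I : Ideal A}

theorem aE_mem (ha : ∀ i, a i ∈ I) (e : Fin r →₀ ℕ) : aE a e ∈ I ^ e.degree := by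
  induction e using Finsupp.induction with
  | zero => simp [aE]
  | single_add i k e hi hk ih =>
    rw [aE_add, map_add, pow_add]
    refine Ideal.mul_mem_mul ?_ ih
    simp only [aE, Finsupp.degree_single]
    rw [Finsupp.prod_single_index (h := fun j m => a j ^ m) (pow_zero _)]
    exact Ideal.pow_mem_pow (ha i) k

theorem pow_le_span (hI : I = Ideal.span (Set.range a)) (n : ℕ) :
    I ^ n ≤ Ideal.span {x | ∃ e : Fin r →₀ ℕ, e.degree = n ∧ aE a e = x} := by
  induction n with
  | zero =>
    intro x _
    rw [show x = x • (1 : A) by simp]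
    exact Submodule.smul_mem _ _ (Ideal.subset_span ⟨0, by simp, by simp [aE]⟩)
  | succ n ih =>
    rw [pow_succ]
    refine (Ideal.mul_mono ih hI.le).trans ?_
    rw [Ideal.span_mul_span', Ideal.span_le]
    rintro _ ⟨_, ⟨e, he, rfl⟩, _, ⟨i, rfl⟩, rfl⟩
    refine Ideal.subset_span ⟨e + Finsupp.single i 1, by simp [he], ?_⟩
    rw [aE_add, aE_single]

end Monomials

end Groth.L16.Existence
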