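import Groth.Agent.L16.Existence.Vanishing
import Groth.Agent.L16.ProjSpace.AmpleIff
import Groth.Agent.L22.VeryAmple.Over
import Groth.Agent.L18.AmplePull
import Mathlib.AlgebraicGeometry.Morphisms.ClosedImmersion

/-!
Serre vanishing for an ample module on a proper scheme over a Noetherian ring.
-/

set_option autoImplicit false
set_option linter.style.haveILetI false
set_option backward.isDefEq.respectTransparency false
set_option backward.isDefEq.respectTransparency.types false

universe u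

open CategoryTheory CategoryTheory.Limits AlgebraicGeometry TopologicalSpace Opposite

noncomputable section

namespace Groth.L16.Existence

open Groth.L00.Tensor (tensorIso tensorAssoc tensorPowAdd tensorPowMul tensorPowIso)

/-- Serre vanishing for ample modules. -/
theorem exists_vanishing_of_isAmple {A : Type u} [CommRing A] [IsNoetherianRing A] {X : Scheme.{u}}
    [X.Over (Spec (CommRingCat.of A))] [IsProper (X ↘ Spec (CommRingCat.of A))] {L : X.Modules}
    (hL : CohB1.IsAmple L) {M : X.Modules} (hM : Coh.IsCoh M) :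
    ∃ d₀ : ℕ, ∀ d : ℕ, d₀ ≤ d → ∀ q : ℕ, 0 < q →
      Subsingleton (Coh.HH X (CohB1.tensorMod (CohB1.tensorPow L d) M) q) := by
  haveI : X.IsSeparated := Groth.L18.Ample.isSeparated_of_isAmple hL
  haveI : IsLocallyNoetherian X := LocallyOfFiniteType.isLocallyNoetherian (X ↘ Spec (CommRingCat.of A))
  obtain ⟨N₀, h⟩ := Groth.L22.VeryAmple.exists_forall_immersion_of_isAmple (R := A)
    (X ↘ Spec (CommRingCat.of A)) hL
  let N := N₀ + 1
  obtain ⟨n, r, hr, hi, ⟨τ⟩⟩ := h N (Nat.le_succ N₀)
  haveI : IsImmersion r := hi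
  haveI : IsClosedImmersion r := by
    haveI : IsProper (r ≫ CohB1.ProjSpace.toSpec n A) := by
      rw [show r ≫ CohB1.ProjSpace.toSpec n A = X ↘ Spec (CommRingCat.of A) from hr]
      infer_instance
    haveI : IsProper r := IsProper.of_comp r (CohB1.ProjSpace.toSpec n A)
    exact IsClosedImmersion.of_isPreimmersion r r.isClosedMap.isClosed_range
  have hinv : PicF.IsInvertible L := hL.1
  haveI : Coh.IsQCoh M := hM.1
  have hT : ∀ j : ℕ, Coh.IsCoh (CohB1.tensorMod (CohB1.tensorPow L j) M) := fun j =>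
    have hP := ProperFinite.isCoh_of_isInvertible (Groth.L18.Ample.isInvertible_tensorPow hinv j)
    haveI : Coh.IsQCoh (CohB1.tensorPow L j) := hP.1
    ⟨Groth.L00.Tensor.isQCoh_tensorMod _ _, Groth.L00.Tensor.isFT_tensorMod _ _ hP.2 hM.2⟩
  choose d₁ hd₁ using fun j : ℕ => ProjSpace.exists_vanishing n A ((Coh.push r).obj (CohB1.tensorMod
    (CohB1.tensorPow L j) M)) (CohClosedPush.isCoh_push r (hT j))
  have hcov : ∀ x : Proj (CohB1.polyGrading n A), ∃ f : CohB1.polyGrading n A 1,
      x ∈ Proj.basicOpen (CohB1.polyGrading n A) f.1 := fun x =>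
    (ProjSpace.exists_mem_basicOpen_X n A x).elim fun k hk => ⟨⟨_, ProjSpace.X_mem n A k⟩, hk⟩
  let D := (Finset.range N).sup d₁
  refine ⟨N * (D + 1), fun d hd q hq => ?_⟩
  let e := d / N
  have hN : 0 < N := Nat.succ_pos _
  have hj : d % N < N := Nat.mod_lt _ hN
  have he : d₁ (d % N) ≤ e := by
    refine (Finset.le_sup (Finset.mem_range.2 hj)).trans ?_
    exact (Nat.le_succ D).trans ((Nat.le_div_iff_mul_le hN).2 (by rw [Nat.mul_comm]; exact hd))
  let O := Twist.twistProjSpace n A (e : ℤ)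
  have hO : FlatMod.IsFinLocFree O :=
    isFinLocFree_of_isInvertible (ProjTwist.isInvertible_twistProjSpace n A (e : ℤ))
  let S := CohB1.tensorMod (CohB1.tensorPow L (d % N)) M
  obtain ⟨ε⟩ : Nonempty (CohB1.tensorMod ((Scheme.Modules.pullback r).obj O) S ≅
      CohB1.tensorMod (CohB1.tensorPow L d) M) := by
    obtain ⟨e₁⟩ := ProjTwist.nonempty_twist_iso_tensorPow (CohB1.polyGrading n A) hcov e
    let e₂ : (Scheme.Modules.pullback r).obj O ≅ CohB1.tensorPow L (N * e) :=
      (Scheme.Modules.pullback r).mapIso e₁ ≪≫ Groth.L18.Ample.pullPow r _ e ≪≫ tensorPowIso τ e ≪≫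
        tensorPowMul L N e
    exact ⟨(tensorAssoc _ _ _).symm ≪≫ tensorIso (tensorIso e₂ (Iso.refl _) ≪≫ tensorPowAdd L (N * e) (d % N) ≪≫
      eqToIso (by rw [show N * e + d % N = d from Nat.div_add_mod d N])) (Iso.refl M)⟩
  haveI : Coh.IsQCoh (CohB1.tensorMod ((Scheme.Modules.pullback r).obj O) S) := by
    haveI : Coh.IsQCoh O := ProjTwist.isQCoh_twist (CohB1.polyGrading n A) e
    haveI := AffineBC.isQCoh_pullback r O
    haveI : Coh.IsQCoh S := (hT (d % N)).1
    exact Groth.L00.Tensor.isQCoh_tensorMod _ _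
  haveI := hd₁ (d % N) e he q hq
  have h1 : Subsingleton (Coh.HH (CohB1.ProjSpace n A)
      ((Coh.push r).obj (CohB1.tensorMod ((Scheme.Modules.pullback r).obj O) S)) q) :=
    ProjSpace.subsingleton_of_iso ((Groth.L17.ProjFormula.projIso r O hO).app S).symm q (hd₁ (d % N) e he q hq)
  obtain ⟨e₃⟩ := Groth.L17.nonempty_HH_push_of_isAffineHom r
    (CohB1.tensorMod ((Scheme.Modules.pullback r).obj O) S) q
  haveI := h1
  exact ProjSpace.subsingleton_of_iso ε.symm q (@Equiv.subsingleton _ _ e₃.toEquiv h1)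

end Groth.L16.Existence

namespace Groth.L16.Existence

open AffineBC (Xb gb)

/-- Uniform vanishing of the twists of the graded pieces of a coherent formal module. -/
theorem exists_uniform_vanishing_of_isAmple {A : Type u} [CommRing A] [IsNoetherianRing A] {I : Ideal A}
    {X : Scheme.{u}} [X.Over (Spec (CommRingCat.of A))] [IsProper (X ↘ Spec (CommRingCat.of A))] {L : X.Modules}
    (hL : CohB1.IsAmple L) {G : ℕᵒᵖ ⥤ X.Modules} (hG : Formal.IsCohFormal I G) :
    ∃ d₀ : ℕ, ∀ d : ℕ, d₀ ≤ d → ∀ (m q : ℕ), 0 < q →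
      Subsingleton (Coh.HH X (CohB1.tensorMod (CohB1.tensorPow L d) (K G m)) q) := by
  obtain ⟨r, a, ha⟩ := Submodule.fg_iff_exists_fin_generating_family.1 (IsNoetherian.noetherian I)
  obtain ⟨D⟩ := nonempty_pieces hG a ha.symm (𝟙 (G.obj (op 0))) (hG.1 0)
  let B := MvPolynomial (Fin r) A
  let g := gb A B X
  have hLB : CohB1.IsAmple ((Scheme.Modules.pullback g).obj L) :=
    Groth.L18.Ample.isAmple_pullback_of_isAffineHom g hL
  haveI : Coh.IsQCoh D.M := D.isCoh.1
  obtain ⟨d₀, hd₀⟩ := exists_vanishing_of_isAmple (A := B) hLB D.isCoh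
  refine ⟨d₀, fun d hd m q hq => ?_⟩
  let O := CohB1.tensorPow L d
  have hinv := Groth.L18.Ample.isInvertible_tensorPow (L := L) hL.1 d
  have hO : FlatMod.IsFinLocFree O := isFinLocFree_of_isInvertible hinv
  let T := Groth.L00.Tensor.tensorLeftF O
  refine subsingleton_of_retract (T.map (D.i m)) (T.map (D.p m))
    (by rw [← T.map_comp, D.i_p, CategoryTheory.Functor.map_id]) q ?_
  let e₂ : T.obj ((Coh.push g).obj D.M) ≅
      (Coh.push g).obj (CohB1.tensorMod ((Scheme.Modules.pullback g).obj O) D.M) :=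
    (Groth.L17.ProjFormula.projIso g O hO).app D.M
  refine ProjSpace.subsingleton_of_iso e₂ q ?_
  haveI : IsLocallyNoetherian X := LocallyOfFiniteType.isLocallyNoetherian (X ↘ Spec (CommRingCat.of A))
  haveI : Coh.IsQCoh O := (ProperFinite.isCoh_of_isInvertible hinv).1
  haveI := AffineBC.isQCoh_pullback g O
  haveI := Groth.L00.Tensor.isQCoh_tensorMod ((Scheme.Modules.pullback g).obj O) D.M
  obtain ⟨e₃⟩ := Groth.L17.nonempty_HH_push_of_isAffineHom g
    (CohB1.tensorMod ((Scheme.Modules.pullback g).obj O) D.M) q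
  have h0 := ProjSpace.subsingleton_of_iso
    ((Groth.L00.Tensor.tensorRightF D.M).mapIso (Groth.L18.Ample.pullPow g L d)) q (hd₀ d hd q hq)
  exact @Equiv.subsingleton _ _ e₃.symm.toEquiv h0

end Groth.L16.Existence
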