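import Groth.Agent.L16.Existence.FormalBasic
import Groth.Agent.L16.Existence.Twist
import Groth.Agent.L16.Existence.Vanishing
import Groth.Agent.L16.ProjSpace.QuotTwist
import Groth.Agent.L16.ProjSpace.Basic
import Groth.Agent.L18.AmpleGG

/-!
Grothendieck's existence theorem on projective space.
-/

set_option autoImplicit false
set_option linter.style.haveILetI false
set_option backward.isDefEq.respectTransparency false
set_option backward.isDefEq.respectTransparency.types false

universe u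

open CategoryTheory CategoryTheory.Limits AlgebraicGeometry TopologicalSpace Opposite

noncomputable section

namespace Groth.L16.Existence

open Formal (smulMod smulFamily modPow modPowπ modPowTrans modPowπ_trans)
open AffineBC (Xb gb)

variable {A : Type u} [CommRing A] (n : ℕ)

/-- `O(e) ⊗ O(-e) ≅ O`. -/
theorem nonempty_twist_inverse (e : ℕ) :
    Nonempty (CohB1.tensorMod (Twist.twistProjSpace n A (e : ℤ)) (Twist.twistProjSpace n A (-(e : ℤ))) ≅
      Coh.structureModule (CohB1.ProjSpace n A)) := by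
  obtain ⟨e₁⟩ := ProjTwist.nonempty_tensor_twist_iso_one (CohB1.polyGrading n A) (fun x =>
    (ProjSpace.exists_mem_basicOpen_X n A x).elim fun k hk => ⟨⟨_, ProjSpace.X_mem n A k⟩, hk⟩)
    (e : ℤ) (-(e : ℤ))
  exact ⟨e₁ ≪≫ eqToIso (by rw [add_neg_cancel]) ≪≫ (ProjTwist.nonempty_twist_zero_iso _).some⟩

/-- A coherent module is covered by twists of large negative degree. -/
theorem exists_twist_cover (M : (CohB1.ProjSpace n A).Modules) (hM : Coh.IsCoh M) (d₀ : ℕ) :
    ∃ (e k : ℕ) (p : (∐ fun _ : Fin k => Twist.twistProjSpace n A (-(e : ℤ))) ⟶ M), d₀ ≤ e ∧ Epi p := by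
  haveI : Coh.IsQCoh M := hM.1
  obtain ⟨n₀, h⟩ := ProjTwist.exists_epi_neg_twists (CohB1.polyGrading n A)
    (fun i : ULift.{u} (Fin (n + 1)) => (⟨MvPolynomial.X i.down, ProjSpace.X_mem n A i.down⟩ : CohB1.polyGrading n A 1))
    one_pos (fun x => (ProjSpace.exists_mem_basicOpen_X n A x).elim fun i hi => ⟨⟨i⟩, hi⟩) M hM.2
  obtain ⟨k, p, hp⟩ := h (max n₀ d₀) (le_max_left _ _)
  exact ⟨max n₀ d₀ * 1, k, p, by omega, hp⟩

variable [IsNoetherianRing A] [(CohB1.ProjSpace n A).Over (Spec (CommRingCat.of A))]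

/-- A sequence of epimorphisms whose kernels are retracts of one coherent module is covered compatibly. -/
theorem exists_lifts (hP : (CohB1.ProjSpace n A ↘ Spec (CommRingCat.of A)) = CohB1.ProjSpace.toSpec n A)
    {r : ℕ} (M : (Xb A (MvPolynomial (Fin r) A) (CohB1.ProjSpace n A)).Modules) (hM : Coh.IsCoh M)
    (Y : ℕ → (CohB1.ProjSpace n A).Modules) (hY : Coh.IsCoh (Y 0)) (τ : ∀ m, Y (m + 1) ⟶ Y m)
    (hτ : ∀ m, Epi (τ m))
    (hret : ∀ m, ∃ (i : kernel (τ m) ⟶ (Coh.push (gb A (MvPolynomial (Fin r) A) (CohB1.ProjSpace n A))).obj M)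
      (p : _ ⟶ kernel (τ m)), i ≫ p = 𝟙 _) :
    ∃ (E : (CohB1.ProjSpace n A).Modules) (v : ∀ m, E ⟶ Y m),
      Coh.IsCoh E ∧ Epi (v 0) ∧ ∀ m, v (m + 1) ≫ τ m = v m := by
  haveI : LocallyOfFiniteType (CohB1.ProjSpace n A ↘ Spec (CommRingCat.of A)) := by rw [hP]; infer_instance
  haveI : IsLocallyNoetherian (CohB1.ProjSpace n A) :=
    LocallyOfFiniteType.isLocallyNoetherian (CohB1.ProjSpace n A ↘ Spec (CommRingCat.of A))
  obtain ⟨d₀, hd⟩ := exists_uniform_vanishing n hP M hM (fun m => kernel (τ m)) hret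
  obtain ⟨e, k, p, he, hp⟩ := exists_twist_cover n (Y 0) hY d₀
  obtain ⟨ee⟩ := nonempty_twist_inverse (A := A) n e
  let E := ∐ fun _ : Fin k => Twist.twistProjSpace n A (-(e : ℤ))
  have step : ∀ (m : ℕ) (u : E ⟶ Y m), ∃ u' : E ⟶ Y (m + 1), u' ≫ τ m = u := fun m u => by
    haveI := hτ m
    exact exists_lift _ _ ee (τ m) (hd e he m 1 one_pos) u
  choose s hs using step
  let v : ∀ m, E ⟶ Y m := fun m => Nat.rec (motive := fun m => E ⟶ Y m) p (fun m u => s m u) m
  refine ⟨E, v, isCoh_sigma _ fun _ => ?_, hp, fun m => hs m (v m)⟩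
  exact Groth.L18.Ample.isCoh_of_isInvertible (ProjTwist.isInvertible_twistProjSpace n A _)

end Groth.L16.Existence

namespace Groth.L16.Existence

open Formal (smulMod smulFamily modPow modPowπ modPowTrans modPowπ_trans)

variable {A : Type u} [CommRing A] {X : Scheme.{u}} [X.Over (Spec (CommRingCat.of A))] {I : Ideal A}
  {G G' : ℕᵒᵖ ⥤ X.Modules} (α : G' ⟶ G)

/-- The transition maps on kernels. -/
def τK (m : ℕ) : kernel (α.app (op (m + 1))) ⟶ kernel (α.app (op m)) :=
  kernel.lift _ (kernel.ι _ ≫ tr G' m (m + 1) (Nat.le_succ m)) (by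
    rw [Category.assoc, show tr G' m (m + 1) (Nat.le_succ m) ≫ α.app (op m) =
      α.app (op (m + 1)) ≫ tr G m (m + 1) (Nat.le_succ m) from α.naturality _, kernel.condition_assoc,
      zero_comp])

theorem τK_ι (m : ℕ) : τK α m ≫ kernel.ι _ = kernel.ι _ ≫ tr G' m (m + 1) (Nat.le_succ m) :=
  kernel.lift_ι _ _ _

/-- The kernel of the transition maps on kernels is the kernel on graded pieces. -/
def kerτKIso (m : ℕ) : kernel (τK α m) ≅ L α m where
  hom := kernel.lift _ (kernel.lift _ (kernel.ι (τK α m) ≫ kernel.ι _) (by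
      rw [Category.assoc, ← τK_ι, ← Category.assoc, kernel.condition, zero_comp])) (by
    rw [← cancel_mono (kernel.ι _), Category.assoc, γ_ι, kernel.lift_ι_assoc, Category.assoc, kernel.condition,
      comp_zero, zero_comp])
  inv := kernel.lift _ (kernel.lift _ (kernel.ι (γ α m) ≫ kernel.ι _) (by
      rw [Category.assoc, ← γ_ι, ← Category.assoc, kernel.condition, zero_comp])) (by
    rw [← cancel_mono (kernel.ι _), Category.assoc, τK_ι, kernel.lift_ι_assoc, Category.assoc, kernel.condition,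
      comp_zero, zero_comp])
  hom_inv_id := by
    apply (cancel_mono (kernel.ι (τK α m))).1
    apply (cancel_mono (kernel.ι (α.app (op (m + 1))))).1
    simp
  inv_hom_id := by
    apply (cancel_mono (kernel.ι (γ α m))).1
    apply (cancel_mono (kernel.ι (tr G' m (m + 1) (Nat.le_succ m)))).1
    simp

theorem kerτKIso_inv_ι (m : ℕ) :
    (kerτKIso α m).inv ≫ kernel.ι (τK α m) ≫ kernel.ι _ = kernel.ι (γ α m) ≫ kernel.ι _ := by
  simp [kerτKIso]

/-- The transition maps on kernels are onto. -/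
theorem epi_τK (hG' : Formal.IsCohFormal I G') (m : ℕ) [Epi (γ α m)] : Epi (τK α m) := by
  haveI := epi_tr hG' (Nat.le_succ m)
  let p₁ := pullback.fst (tr G' m (m + 1) (Nat.le_succ m)) (kernel.ι (α.app (op m)))
  let p₂ := pullback.snd (tr G' m (m + 1) (Nat.le_succ m)) (kernel.ι (α.app (op m)))
  haveI : Epi p₂ := inferInstanceAs (Epi (pullback.snd _ _))
  let s := kernel.lift (tr G m (m + 1) (Nat.le_succ m)) (p₁ ≫ α.app (op (m + 1))) (by
    rw [Category.assoc, show α.app (op (m + 1)) ≫ tr G m (m + 1) (Nat.le_succ m) =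
        tr G' m (m + 1) (Nat.le_succ m) ≫ α.app (op m) from (α.naturality _).symm, pullback.condition_assoc,
      kernel.condition, comp_zero])
  let q₁ := pullback.fst (γ α m) s
  let q₂ := pullback.snd (γ α m) s
  haveI : Epi q₂ := inferInstanceAs (Epi (pullback.snd _ _))
  have ht : (q₂ ≫ p₁ - q₁ ≫ kernel.ι _) ≫ α.app (op (m + 1)) = 0 := by
    rw [Preadditive.sub_comp, Category.assoc, Category.assoc, ← γ_ι, sub_eq_zero,
      pullback.condition_assoc, kernel.lift_ι]
  have h : kernel.lift (α.app (op (m + 1))) _ ht ≫ τK α m = q₂ ≫ p₂ := by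
    rw [← cancel_mono (kernel.ι (α.app (op m))), Category.assoc, τK_ι, kernel.lift_ι_assoc,
      Preadditive.sub_comp, Category.assoc, Category.assoc, kernel.condition, comp_zero, sub_zero,
      Category.assoc]
    exact congrArg (q₂ ≫ ·) pullback.condition
  haveI : Epi (kernel.lift (α.app (op (m + 1))) _ ht ≫ τK α m) := by rw [h]; exact epi_comp _ _
  exact epi_of_epi (kernel.lift (α.app (op (m + 1))) _ ht) _

variable {E' : X.Modules} (x : ∀ m, E' ⟶ kernel (α.app (op m)))
  (hx : ∀ m, x (m + 1) ≫ τK α m = x m) (hτ : ∀ m, Epi (τK α m))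

include hx hτ in
theorem epi_x_down {c : ℕ} (hc : Epi (x c)) : ∀ j m, m + j = c → Epi (x m)
  | 0, m, h => by
    obtain rfl : m = c := h
    exact hc
  | j + 1, m, h => by
    haveI := epi_x_down hc j (m + 1) (by omega)
    haveI := hτ m
    rw [← hx m]
    exact epi_comp _ _

variable (hG' : Formal.IsCohFormal I G')

include hx hτ in
/-- Surjectivity in high degree from the bound on generators. -/
theorem epi_x_up {c : ℕ} (hlow : ∀ m, m ≤ c → Epi (x m))
    (hgen : ∀ m, c ≤ m → ∀ {T : X.Modules} (t : G'.obj (op (m + 1)) ⟶ T),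
        (∀ k, k < c → ∀ (hk : k + 1 ≤ m + 1) (d : A) (hd : d ∈ I ^ (m + 1 - (k + 1))),
          kernel.ι (γ α k) ≫ kernel.ι _ ≫ mul hG' (k + 1) (m + 1) hk d hd ≫ t = 0) →
        kernel.ι (γ α m) ≫ kernel.ι _ ≫ t = 0) (m : ℕ) : Epi (x m) := by
  by_cases hm : m ≤ c
  · exact hlow m hm
  induction m with
  | zero => omega
  | succ m ih =>
    haveI : Epi (x m) := if h : m ≤ c then hlow m h else ih h
    haveI := hτ m
    let y := x (m + 1) ≫ kernel.ι (α.app (op (m + 1)))
    let t := cokernel.π y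
    have hY : ∀ k (hk : k ≤ m + 1), (x (m + 1) ≫ kernel.ι _) ≫ tr G' k (m + 1) hk = x k ≫ kernel.ι _ := by
      intro k hk
      clear hgen ih t y hm
      induction hk using Nat.decreasingInduction with
      | of_succ k hk ih =>
        rw [← tr_comp G' (Nat.le_succ k) hk, ← Category.assoc _ (tr G' (k + 1) (m + 1) hk), ih, Category.assoc,
          ← τK_ι, ← Category.assoc, hx]
      | self => rw [tr_self, Category.comp_id]
    have h1 := hgen m (by omega) t fun k hk hk1 d hd => by
      haveI := hlow (k + 1) (by omega)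
      have e : kernel.ι (α.app (op (k + 1))) ≫ mul hG' (k + 1) (m + 1) hk1 d hd ≫ t = 0 := by
        rw [← cancel_epi (x (k + 1)), comp_zero, ← Category.assoc, ← hY (k + 1) hk1, Category.assoc,
          reassoc_of% tr_mul hG' (k + 1) (m + 1) hk1 d hd, ← Category.assoc y,
          ← Rees.smulMod_naturality A y d, Category.assoc, cokernel.condition, comp_zero]
      rw [← reassoc_of% kerτKIso_inv_ι α k, e, comp_zero, comp_zero]
    let z := kernel.lift t (kernel.ι (γ α m) ≫ kernel.ι _) ((Category.assoc _ _ _).trans h1)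
    let u : Abelian.image y ⟶ kernel (α.app (op (m + 1))) := kernel.lift _ (Abelian.image.ι y) (by
      rw [← cancel_epi (Abelian.factorThruImage y), reassoc_of% Abelian.image.fac y, comp_zero]
      exact (Category.assoc _ _ _).trans (by rw [kernel.condition, comp_zero]))
    have hu : Abelian.factorThruImage y ≫ u = x (m + 1) := by
      rw [← cancel_mono (kernel.ι (α.app (op (m + 1)))), Category.assoc, kernel.lift_ι, Abelian.image.fac]
    have hz : (kerτKIso α m).inv ≫ kernel.ι (τK α m) = z ≫ u := by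
      rw [← cancel_mono (kernel.ι (α.app (op (m + 1)))), Category.assoc, kerτKIso_inv_ι, Category.assoc,
        kernel.lift_ι, kernel.lift_ι]
    refine Preadditive.epi_of_cokernel_zero ?_
    have hu0 : u ≫ cokernel.π (x (m + 1)) = 0 := by
      rw [← cancel_epi (Abelian.factorThruImage y), reassoc_of% hu, cokernel.condition, comp_zero]
    have hk0 : kernel.ι (τK α m) ≫ cokernel.π (x (m + 1)) = 0 := by
      rw [← cancel_epi (kerτKIso α m).inv, reassoc_of% hz, hu0, comp_zero, comp_zero]
    have h2 := Abelian.comp_epiDesc (τK α m) _ hk0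
    have h3 : Abelian.epiDesc (τK α m) _ hk0 = 0 := by
      rw [← cancel_epi (x m), comp_zero, ← hx m, Category.assoc, h2, cokernel.condition]
    rw [← h2, h3, comp_zero]

end Groth.L16.Existence

namespace Groth.L16.Existence

open Formal (smulMod smulFamily modPow modPowπ modPowTrans modPowπ_trans)

variable {A : Type u} [CommRing A] [IsNoetherianRing A] (n : ℕ)
  [(CohB1.ProjSpace n A).Over (Spec (CommRingCat.of A))]

/-- Existence theorem on projective space. -/
theorem exists_algebraization_projSpace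
    (hP : (CohB1.ProjSpace n A ↘ Spec (CommRingCat.of A)) = CohB1.ProjSpace.toSpec n A)
    (I : Ideal A) [IsAdicComplete I A] (G : ℕᵒᵖ ⥤ (CohB1.ProjSpace n A).Modules)
    (hG : Formal.IsCohFormal I G) :
    ∃ M : (CohB1.ProjSpace n A).Modules, Coh.IsCoh M ∧ Nonempty (Formal.completion I M ≅ G) := by
  classical
  haveI : IsProper (CohB1.ProjSpace n A ↘ Spec (CommRingCat.of A)) := by rw [hP]; infer_instance
  haveI : IsLocallyNoetherian (CohB1.ProjSpace n A) :=
    LocallyOfFiniteType.isLocallyNoetherian (CohB1.ProjSpace n A ↘ Spec (CommRingCat.of A))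
  haveI : CompactSpace (CohB1.ProjSpace n A) :=
    QuasiCompact.compactSpace_of_compactSpace (CohB1.ProjSpace n A ↘ Spec (CommRingCat.of A))
  obtain ⟨r, a, ha⟩ := Submodule.fg_iff_exists_fin_generating_family.1 (IsNoetherian.noetherian I)
  have hI : I = Ideal.span (Set.range a) := ha.symm
  -- a cover
  obtain ⟨D⟩ := nonempty_pieces hG a hI (𝟙 (G.obj (op 0))) (hG.1 0)
  obtain ⟨E, v, hE, hv0, hv⟩ := exists_lifts n hP D.M D.isCoh (fun m => G.obj (op m)) (hG.1 0)
    (fun m => tr G m (m + 1) (Nat.le_succ m)) (fun m => epi_tr hG _) fun m => ⟨D.i m, D.p m, D.i_p m⟩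
  have hv' : ∀ m, v m ≫ tr G 0 m (Nat.zero_le m) = v 0 := by
    intro m
    induction m with
    | zero => rw [tr_self, Category.comp_id]
    | succ k ih => rw [← tr_comp G (Nat.zero_le k) (Nat.le_succ k), reassoc_of% hv k, ih]
  have hw : ∀ m, ∃ w, modPowπ I (m + 1) E ≫ w = v m := fun m => modPow_desc I (v m) fun b hb => by
    rw [Rees.smulMod_naturality, hG.2.1 m b hb, comp_zero]
  choose w hw using hw
  let G' := Formal.completion I E
  have hG' : Formal.IsCohFormal I G' := isCohFormal_completion I hE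
  let α : G' ⟶ G := NatTrans.ofOpSequence (F := G') w fun m => by
    rw [show G'.map (homOfLE (Nat.le_succ m)).op = modPowTrans I (m + 1) E from completion_tr I E m]
    haveI := epi_modPowπ I (m + 1 + 1) E
    refine (cancel_epi (modPowπ I (m + 1 + 1) E)).1 ?_
    rw [← Category.assoc, modPowπ_trans, hw m, ← Category.assoc, hw (m + 1)]
    exact (hv m).symm
  have hα : ∀ m, modPowπ I (m + 1) E ≫ α.app (op m) = v m := hw
  haveI hαe : ∀ m, Epi (α.app (op m)) := fun m => by
    haveI : Epi (modPowπ I (m + 1) E ≫ α.app (op m)) := by rw [hα]; exact epi_of_epi_zero hG v hv' m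
    exact epi_of_epi (modPowπ I (m + 1) E) _
  -- the kernels
  let f : E ⟶ G'.obj (op 0) := modPowπ I (0 + 1) E
  haveI : Epi f := epi_modPowπ I _ E
  haveI : Epi (f ≫ α.app (op 0)) := by rw [show f ≫ α.app (op 0) = v 0 from hα 0]; exact hv0
  haveI hγ : ∀ m, Epi (γ α m) := fun m => by
    haveI : Epi (Pf hG' a hI f m ≫ γ α m) := by rw [Pf_γ hG hG' α]; exact epi_Pf hG a hI _ m
    exact epi_of_epi (Pf hG' a hI f m) _
  have hτ : ∀ m, Epi (τK α m) := fun m => epi_τK α hG' m
  obtain ⟨N, hN, hret, c, hgen⟩ := exists_kernel_pieces hG hG' α a hI f hE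
  have hQ : ∀ m, Coh.IsCoh (kernel (α.app (op m))) := fun m =>
    (CohKernel.isCoh_kernel_cokernel (hG'.1 m) (hG.1 m) _).1
  obtain ⟨E', vs, hE', hvs0, hvs⟩ := exists_lifts n hP N hN (fun j => kernel (α.app (op (c + j)))) (hQ c)
    (fun j => τK α (c + j)) (fun j => hτ (c + j)) fun j => by
      obtain ⟨i, p, hip⟩ := hret (c + j)
      exact ⟨(kerτKIso α (c + j)).hom ≫ i, p ≫ (kerτKIso α (c + j)).inv, by
        rw [Category.assoc, reassoc_of% hip, Iso.hom_inv_id]⟩
  let x : ∀ m, E' ⟶ kernel (α.app (op m)) := fun m =>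
    kernel.lift _ ((vs m ≫ kernel.ι _) ≫ tr G' m (c + m) (by omega)) (by
      rw [Category.assoc, Category.assoc, show tr G' m (c + m) _ ≫ α.app (op m) =
        α.app (op (c + m)) ≫ tr G m (c + m) _ from α.naturality _, kernel.condition_assoc, zero_comp, comp_zero])
  have hxι : ∀ m, x m ≫ kernel.ι _ = (vs m ≫ kernel.ι _) ≫ tr G' m (c + m) (by omega) := fun m =>
    kernel.lift_ι _ _ _
  have hx : ∀ m, x (m + 1) ≫ τK α m = x m := fun m => by
    rw [← cancel_mono (kernel.ι (α.app (op m))), Category.assoc, τK_ι, ← Category.assoc, hxι, hxι, ← hvs m,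
      Category.assoc, Category.assoc, tr_comp, Category.assoc, Category.assoc,
      ← tr_comp G' (show m ≤ c + m by omega) (Nat.le_succ (c + m))]
    exact congrArg (vs (m + 1) ≫ ·) ((Category.assoc _ _ _).symm.trans
      ((congrArg (· ≫ _) (τK_ι α (c + m)).symm).trans (Category.assoc _ _ _)))
  have hvsc : ∀ j, (vs j ≫ kernel.ι _) ≫ tr G' c (c + j) (by omega) = vs 0 ≫ kernel.ι _ := by
    intro j
    induction j with
    | zero => exact (congrArg ((vs 0 ≫ kernel.ι _) ≫ ·) (tr_self G' c)).trans (Category.comp_id _)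
    | succ k ih =>
      rw [← ih, ← hvs k, Category.assoc, Category.assoc, Category.assoc, reassoc_of% τK_ι α (c + k), tr_comp]
      rfl
  have hxc : x c = vs 0 := by
    rw [← cancel_mono (kernel.ι (α.app (op c))), hxι, hvsc]
    rfl
  have hxe : ∀ m, Epi (x m) :=
    epi_x_up α x hx hτ hG' (fun m hm => epi_x_down α x hx hτ (hxc ▸ hvs0) (c - m) m (by omega)) hgen
  -- algebraisation of the relations
  have hs : ClSub.IsProperOver (CohB1.ProjSpace n A ↘ Spec (CommRingCat.of A))
      (CohB1.support E' ∩ CohB1.support E) :=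
    HomSh.isProperOver_mono _ (Z := Set.univ) ⟨isClosed_univ, inferInstance⟩
      ((CohSupport.isClosed_support _ hE'.2).inter (CohSupport.isClosed_support _ hE.2)) (Set.subset_univ _)
  obtain ⟨φ, hφ, -⟩ := HomSh.existsUnique_hom I hE' hE hs (fun m => x m ≫ kernel.ι (α.app (op m))) fun m => by
    rw [← completion_tr I E m, Category.assoc, ← τK_ι, ← Category.assoc, hx]
  let M := cokernel φ
  refine ⟨M, (CohKernel.isCoh_kernel_cokernel hE' hE φ).2, ?_⟩
  haveI : Epi (cokernel.π φ) := coequalizer.π_epi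
  have hu : ∀ m, ∃ u, modPowπ I (m + 1) M ≫ u = cokernel.desc φ (v m) (by
      rw [← hα m, ← Category.assoc, ← hφ m, Category.assoc, kernel.condition, comp_zero]) := fun m =>
    modPow_desc I _ fun b hb => by rw [Rees.smulMod_naturality, hG.2.1 m b hb, comp_zero]
  choose u hu using hu
  have hb : ∀ m, ∃ b, modPowπ I (m + 1) E ≫ b = cokernel.π φ ≫ modPowπ I (m + 1) M := fun m =>
    modPow_desc I _ fun b hb => by
      rw [← Category.assoc, Rees.smulMod_naturality, Category.assoc, Rees.smulMod_modPowπ I M hb, comp_zero]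
  choose b hb using hb
  have hb0 : ∀ m, kernel.ι (α.app (op m)) ≫ b m = 0 := fun m => by
    haveI := hxe m
    rw [← cancel_epi (x m), comp_zero, ← Category.assoc, hφ m, Category.assoc, hb, ← Category.assoc,
      cokernel.condition, zero_comp]
  have hαu : ∀ m, cokernel.π φ ≫ modPowπ I (m + 1) M ≫ u m = v m := fun m => by
    rw [hu, cokernel.π_desc]
  refine nonempty_iso_of_sequence (fun m => ⟨u m, Abelian.epiDesc (α.app (op m)) (b m) (hb0 m), ?_, ?_⟩)
    fun m => ?_
  · haveI := epi_modPowπ I (m + 1) M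
    refine (cancel_epi (modPowπ I (m + 1) M)).1 ((cancel_epi (cokernel.π φ)).1 ?_)
    rw [reassoc_of% hαu m, ← hα m, Category.assoc, Abelian.comp_epiDesc, hb]
    exact congrArg (cokernel.π φ ≫ ·) (Category.comp_id _).symm
  · haveI := epi_modPowπ I (m + 1) E
    refine (cancel_epi (α.app (op m))).1 ((cancel_epi (modPowπ I (m + 1) E)).1 ?_)
    rw [← Category.assoc (α.app (op m)), Abelian.comp_epiDesc, reassoc_of% hb m, hαu m, Category.comp_id, hα]
  · haveI := epi_modPowπ I (m + 1 + 1) M
    rw [show (Formal.completion I M).map (homOfLE (Nat.le_succ m)).op = modPowTrans I (m + 1) M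
      from completion_tr I M m]
    refine (cancel_epi (modPowπ I (m + 1 + 1) M)).1 ((cancel_epi (cokernel.π φ)).1 ?_)
    show cokernel.π φ ≫ modPowπ I (m + 1 + 1) M ≫ modPowTrans I (m + 1) M ≫ u m =
      cokernel.π φ ≫ modPowπ I (m + 1 + 1) M ≫ u (m + 1) ≫ tr G m (m + 1) (Nat.le_succ m)
    rw [reassoc_of% modPowπ_trans I (m + 1) M, hαu m, reassoc_of% hαu (m + 1), hv]

end Groth.L16.Existence
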