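import Groth.Agent.L16.Existence.Kernel
import Groth.Agent.L16.Supp.ProperSupport

/-!
Coherent formal modules: completions, the Nakayama argument, comparison with completions, direct and inverse images
along closed immersions.
-/

set_option autoImplicit false
set_option linter.style.haveILetI false
set_option backward.isDefEq.respectTransparency false
set_option backward.isDefEq.respectTransparency.types false

universe u

open CategoryTheory CategoryTheory.Limits AlgebraicGeometry TopologicalSpace Opposite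

noncomputable section

namespace Groth.L16.Existence

open Formal (smulMod smulFamily modPow modPowπ modPowTrans modPowπ_trans)

variable {A : Type u} [CommRing A] {X : Scheme.{u}} [X.Over (Spec (CommRingCat.of A))] (I : Ideal A)

theorem completion_tr (E : X.Modules) (n : ℕ) :
    tr (Formal.completion I E) n (n + 1) (Nat.le_succ n) = modPowTrans I (n + 1) E := by
  simp only [tr, Formal.completion, Functor.ofOpSequence_map_homOfLE_succ]

theorem π_completion_tr (E : X.Modules) {m n : ℕ} (h : m ≤ n) :
    modPowπ I (n + 1) E ≫ tr (Formal.completion I E) m n h = modPowπ I (m + 1) E := by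
  induction n, h using Nat.le_induction with
  | base =>
    rw [tr_self]
    exact Category.comp_id _
  | succ k hk ih =>
    rw [← tr_comp _ hk (Nat.le_succ k), completion_tr]
    exact ((Category.assoc _ _ _).symm.trans
      (congrArg (· ≫ tr (Formal.completion I E) m k hk) (modPowπ_trans I (k + 1) E))).trans ih

theorem epi_modPowπ (n : ℕ) (E : X.Modules) : Epi (modPowπ I n E) := coequalizer.π_epi

theorem smulMod_modPow_eq_zero {n : ℕ} (E : X.Modules) {b : A} (hb : b ∈ I ^ n) :
    smulMod A (modPow I n E) b = 0 := by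
  haveI := epi_modPowπ I n E
  rw [← cancel_epi (modPowπ I n E), ← Rees.smulMod_naturality, Rees.smulMod_modPowπ I E hb, comp_zero]

theorem modPow_desc {n : ℕ} {E T : X.Modules} (t : E ⟶ T) (h : ∀ b ∈ I ^ n, smulMod A E b ≫ t = 0) :
    ∃ t', modPowπ I n E ≫ t' = t := by
  have h0 : smulFamily (I ^ n) E ≫ t = 0 := by
    apply Sigma.hom_ext
    intro b
    rw [comp_zero, smulFamily, Sigma.ι_desc_assoc]
    exact h b b.2
  exact ⟨cokernel.desc _ t h0, cokernel.π_desc _ _ _⟩

theorem isCohFormal_completion [IsNoetherianRing A] [IsLocallyNoetherian X] {E : X.Modules} (hE : Coh.IsCoh E) :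
    Formal.IsCohFormal I (Formal.completion I E) := by
  refine ⟨fun n => (HomSh.modPow_spec I hE (n + 1)).1, fun n b hb => smulMod_modPow_eq_zero I E hb, fun n => ?_⟩
  haveI := epi_modPowπ I (n + 1 + 1) E
  haveI := epi_modPowπ I (n + 1) E
  have h0 : smulFamily (I ^ (n + 1)) (modPow I (n + 1 + 1) E) ≫ modPowTrans I (n + 1) E = 0 := by
    apply Sigma.hom_ext
    intro b
    rw [comp_zero, smulFamily, Sigma.ι_desc_assoc, ← cancel_epi (modPowπ I (n + 1 + 1) E), comp_zero,
      ← Category.assoc, ← Rees.smulMod_naturality, Category.assoc, modPowπ_trans,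
      Rees.smulMod_modPowπ I E b.2]
  have he : (Formal.completion I E).map (homOfLE (Nat.le_succ n)).op = modPowTrans I (n + 1) E :=
    completion_tr I E n
  rw [he]
  refine ⟨h0, ?_⟩
  obtain ⟨v, hv⟩ := modPow_desc I (n := n + 1)
    (modPowπ I (n + 1 + 1) E ≫ cokernel.π (smulFamily (I ^ (n + 1)) (modPow I (n + 1 + 1) E))) fun b hb => by
    rw [← Category.assoc, Rees.smulMod_naturality, Category.assoc,
      show smulMod A (modPow I (n + 1 + 1) E) b =
          Sigma.ι (fun _ : ↥(I ^ (n + 1)) => modPow I (n + 1 + 1) E) ⟨b, hb⟩ ≫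
            smulFamily (I ^ (n + 1)) (modPow I (n + 1 + 1) E) from
        (Sigma.ι_desc (fun c : ↥(I ^ (n + 1)) => smulMod A (modPow I (n + 1 + 1) E) (c : A)) ⟨b, hb⟩).symm,
      Category.assoc, cokernel.condition, comp_zero, comp_zero]
  haveI : Epi (cokernel.π (smulFamily (I ^ (n + 1)) (modPow I (n + 1 + 1) E))) := coequalizer.π_epi
  show IsIso (cokernel.desc (smulFamily (I ^ (n + 1)) (modPow I (n + 1 + 1) E)) (modPowTrans I (n + 1) E) h0)
  refine ⟨⟨v, ?_, ?_⟩⟩
  · refine (cancel_epi (cokernel.π (smulFamily (I ^ (n + 1)) (modPow I (n + 1 + 1) E)))).1 ?_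
    refine (cancel_epi (modPowπ I (n + 1 + 1) E)).1 ?_
    rw [cokernel.π_desc_assoc, ← Category.assoc, modPowπ_trans, hv, Category.comp_id]
  · rw [← cancel_epi (modPowπ I (n + 1) E), reassoc_of% hv, cokernel.π_desc, modPowπ_trans,
      Category.comp_id]

variable {I}

/-- Nakayama: a compatible family of maps onto the first level is onto every level. -/
theorem epi_of_epi_zero {G : ℕᵒᵖ ⥤ X.Modules} (hG : Formal.IsCohFormal I G) {E : X.Modules}
    (v : ∀ n, E ⟶ G.obj (op n)) (hv : ∀ n, v n ≫ tr G 0 n (Nat.zero_le n) = v 0) [Epi (v 0)] (n : ℕ) :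
    Epi (v n) := by
  refine Preadditive.epi_of_cokernel_zero ?_
  let c := cokernel.π (v n)
  haveI : Epi c := coequalizer.π_epi
  have hI : ∀ {T : X.Modules} (t : cokernel (v n) ⟶ T), (∀ b ∈ I, smulMod A (cokernel (v n)) b ≫ t = 0) → t = 0 := by
    intro T t ht
    obtain ⟨t', ht'⟩ := exists_desc hG (Nat.zero_le n) (c ≫ t) fun b hb => by
      rw [← Category.assoc, Rees.smulMod_naturality, Category.assoc, ht b (by simpa using hb), comp_zero]
    have h0 : t' = 0 := by
      rw [← cancel_epi (v 0), comp_zero, ← hv n, Category.assoc, ht', ← Category.assoc,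
        cokernel.condition, zero_comp]
    rw [← cancel_epi c, comp_zero, ← ht', h0, comp_zero]
  have key : ∀ j, j ≤ n + 1 → ∀ b ∈ I ^ (n + 1 - j), smulMod A (cokernel (v n)) b = 0 := by
    intro j
    induction j with
    | zero =>
      intro _ b hb
      rw [← cancel_epi c, comp_zero, ← Rees.smulMod_naturality, hG.2.1 n b hb, zero_comp]
    | succ j ih =>
      intro hj b hb
      refine hI _ fun x hx => ?_
      rw [← Rees.smulMod_mul]
      refine ih (by omega) _ ?_
      have := Ideal.mul_mem_mul hb hx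
      rwa [← pow_succ, show n + 1 - (j + 1) + 1 = n + 1 - j by omega] at this
  have h1 := key (n + 1) le_rfl 1 (by simp)
  rw [Rees.smulMod_one] at h1
  rw [← cancel_mono (𝟙 (cokernel (v n))), zero_comp, h1, comp_zero]

/-- A morphism of sequences indexed by `ℕᵒᵖ` made of isomorphisms. -/
theorem nonempty_iso_of_sequence {F G : ℕᵒᵖ ⥤ X.Modules} (e : ∀ n, F.obj (op n) ≅ G.obj (op n))
    (he : ∀ n, F.map (homOfLE (Nat.le_succ n)).op ≫ (e n).hom = (e (n + 1)).hom ≫ G.map (homOfLE (Nat.le_succ n)).op) :
    Nonempty (F ≅ G) := by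
  let α : F ⟶ G := NatTrans.ofOpSequence (fun n => (e n).hom) he
  haveI : ∀ k, IsIso (α.app k) := fun k => (e k.unop).isIso_hom
  haveI : IsIso α := NatIso.isIso_of_isIso_app α
  exact ⟨asIso α⟩

section Closed

variable {Z : Scheme.{u}} [Z.Over (Spec (CommRingCat.of A))] (i : Z ⟶ X) [IsClosedImmersion i]
  (hi : i ≫ (X ↘ Spec (CommRingCat.of A)) = Z ↘ Spec (CommRingCat.of A))

include hi in
theorem isCohFormal_push {G : ℕᵒᵖ ⥤ Z.Modules} (hG : Formal.IsCohFormal I G) :
    Formal.IsCohFormal I (G ⋙ Coh.push i) := by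
  haveI : (Coh.push i).Additive :=
    (Scheme.Modules.pullbackPushforwardAdjunction i).right_adjoint_additive
  refine ⟨fun n => CohClosedPush.isCoh_push i (hG.1 n), fun n b hb => ?_, fun n => ?_⟩
  · show smulMod A ((Coh.push i).obj (G.obj (op n))) b = 0
    rw [Supp.smulMod_push i hi, hG.2.1 n b hb, Functor.map_zero]
  · obtain ⟨h0, hiso⟩ := hG.2.2 n
    obtain ⟨θ, hθ⟩ := Supp.exists_modPowIso I i hi (Iso.refl ((Coh.push i).obj (G.obj (op (n + 1))))) (n + 1)
    rw [Iso.refl_hom, Category.id_comp] at hθ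
    let δ : modPow I (n + 1) (G.obj (op (n + 1))) ⟶ G.obj (op n) := cokernel.desc _ _ h0
    haveI : IsIso δ := hiso
    have hδ : modPowπ I (n + 1) (G.obj (op (n + 1))) ≫ δ = G.map (homOfLE (Nat.le_succ n)).op :=
      cokernel.π_desc _ _ _
    have e : modPowπ I (n + 1) ((Coh.push i).obj (G.obj (op (n + 1)))) ≫ θ.inv ≫ (Coh.push i).map δ =
        (Coh.push i).map (G.map (homOfLE (Nat.le_succ n)).op) := by
      rw [← reassoc_of% hθ, θ.hom_inv_id_assoc, ← Functor.map_comp, hδ]
    have h1 : smulFamily (I ^ (n + 1)) ((Coh.push i).obj (G.obj (op (n + 1)))) ≫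
        (Coh.push i).map (G.map (homOfLE (Nat.le_succ n)).op) = 0 := by
      apply Sigma.hom_ext
      intro b
      rw [comp_zero, smulFamily, Sigma.ι_desc_assoc, Rees.smulMod_naturality,
        show smulMod A ((Coh.push i).obj (G.obj (op n))) (b : A) = 0 by
          rw [Supp.smulMod_push i hi, hG.2.1 n b b.2, Functor.map_zero], comp_zero]
    refine ⟨h1, ?_⟩
    haveI := epi_modPowπ I (n + 1) ((Coh.push i).obj (G.obj (op (n + 1))))
    have : cokernel.desc (smulFamily (I ^ (n + 1)) ((Coh.push i).obj (G.obj (op (n + 1))))) _ h1 =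
        θ.inv ≫ (Coh.push i).map δ :=
      (cancel_epi (modPowπ I (n + 1) ((Coh.push i).obj (G.obj (op (n + 1)))))).1
        ((cokernel.π_desc _ _ h1).trans e.symm)
    show IsIso (cokernel.desc _ _ h1)
    rw [this]
    infer_instance

include hi in
omit [IsClosedImmersion i] in
/-- Pullback commutes with reduction. -/
theorem exists_pullback_modPowIso (M : X.Modules) (m : ℕ) :
    ∃ e : modPow I m ((Scheme.Modules.pullback i).obj M) ≅ (Scheme.Modules.pullback i).obj (modPow I m M),
      modPowπ I m ((Scheme.Modules.pullback i).obj M) ≫ e.hom = (Scheme.Modules.pullback i).map (modPowπ I m M) := by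
  let adj := Scheme.Modules.pullbackPushforwardAdjunction i
  let P := Scheme.Modules.pullback i
  haveI : P.IsLeftAdjoint := adj.isLeftAdjoint
  haveI : P.Additive := adj.left_adjoint_additive
  haveI := epi_modPowπ I m M
  haveI := epi_modPowπ I m (P.obj M)
  haveI : Epi (P.map (modPowπ I m M)) := Functor.map_epi _ _
  have hsm : ∀ b : A, P.map (smulMod A M b) = smulMod A (P.obj M) b := fun b => by
    refine (adj.homEquiv _ _).injective ?_
    rw [Adjunction.homEquiv_unit, Adjunction.homEquiv_unit]
    show adj.unit.app M ≫ (Coh.push i).map (P.map (smulMod A M b)) =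
      adj.unit.app M ≫ (Coh.push i).map (smulMod A (P.obj M) b)
    rw [← Supp.smulMod_push i hi]
    exact (adj.unit.naturality (smulMod A M b)).symm.trans
      (Rees.smulMod_naturality A (adj.unit.app M) b)
  obtain ⟨r, hr⟩ := modPow_desc I (n := m) (P.map (modPowπ I m M)) fun b hb => by
    rw [← hsm, ← Functor.map_comp, Rees.smulMod_modPowπ I M hb, Functor.map_zero]
  obtain ⟨s, hs⟩ := modPow_desc I (n := m) (E := M) ((adj.homEquiv _ _) (modPowπ I m (P.obj M))) fun b hb => by
    rw [← Adjunction.homEquiv_naturality_left, hsm, Rees.smulMod_modPowπ I (P.obj M) hb,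
      Adjunction.homEquiv_unit]
    show adj.unit.app M ≫ (Coh.push i).map 0 = 0
    haveI : (Coh.push i).Additive := adj.right_adjoint_additive
    rw [Functor.map_zero, comp_zero]
  let s' := (adj.homEquiv _ _).symm s
  have hs' : P.map (modPowπ I m M) ≫ s' = modPowπ I m (P.obj M) := by
    rw [← Adjunction.homEquiv_naturality_left_symm, hs, Equiv.symm_apply_apply]
  refine ⟨⟨r, s', ?_, ?_⟩, hr⟩
  · rw [← cancel_epi (modPowπ I m (P.obj M)), reassoc_of% hr, hs', Category.comp_id]
  · rw [← cancel_epi (P.map (modPowπ I m M)), reassoc_of% hs', hr, Category.comp_id]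

include hi in
/-- Algebraisability descends to a closed subscheme. -/
theorem exists_of_push [IsNoetherianRing A] {G : ℕᵒᵖ ⥤ Z.Modules} {M : X.Modules} (hM : Coh.IsCoh M)
    (e : Formal.completion I M ≅ G ⋙ Coh.push i) :
    ∃ N : Z.Modules, Coh.IsCoh N ∧ Nonempty (Formal.completion I N ≅ G) := by
  let adj := Scheme.Modules.pullbackPushforwardAdjunction i
  let P := Scheme.Modules.pullback i
  haveI := Groth.L17.ClosedPush.isIso_counit i
  refine ⟨P.obj M, AffineBC.isCoh_pullback i hM, ?_⟩
  choose θ hθ using fun n => exists_pullback_modPowIso (I := I) i hi M (n + 1)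
  refine nonempty_iso_of_sequence
    (fun n => θ n ≪≫ P.mapIso (e.app (op n)) ≪≫ (asIso adj.counit).app (G.obj (op n))) fun n => ?_
  haveI := epi_modPowπ I (n + 1 + 1) (P.obj M)
  rw [show (Formal.completion I (P.obj M)).map (homOfLE (Nat.le_succ n)).op = modPowTrans I (n + 1) (P.obj M)
    from completion_tr I (P.obj M) n]
  refine (cancel_epi (modPowπ I (n + 1 + 1) (P.obj M))).1 ?_
  simp only [Iso.trans_hom, Functor.mapIso_hom, Iso.app_hom, asIso_hom, Category.assoc]
  rw [← Category.assoc (modPowπ I (n + 1 + 1) (P.obj M)) (modPowTrans _ _ _), modPowπ_trans, reassoc_of% hθ n,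
    reassoc_of% hθ (n + 1), ← modPowπ_trans I (n + 1) M, Functor.map_comp, Category.assoc,
    show modPowTrans I (n + 1) M = (Formal.completion I M).map (homOfLE (Nat.le_succ n)).op from
      (completion_tr I M n).symm]
  congr 1
  rw [← Functor.map_comp_assoc, e.hom.naturality, Functor.map_comp_assoc]
  congr 1
  exact adj.counit.naturality (G.map (homOfLE (Nat.le_succ n)).op)

end Closed

end Groth.L16.Existence
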