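import Groth.Agent.L16.Existence.Lemmas
import Groth.Agent.L16.Acc
import Mathlib.Algebra.MvPolynomial.Basic
import Mathlib.RingTheory.Polynomial.Basic

/-!
The graded pieces of a coherent formal module as direct summands of one coherent module on the base change to a
polynomial ring.
-/

set_option autoImplicit false
set_option linter.style.haveILetI false
set_option backward.isDefEq.respectTransparency false
set_option backward.isDefEq.respectTransparency.types false

universe u

open CategoryTheory CategoryTheory.Limits AlgebraicGeometry TopologicalSpace Opposite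

noncomputable section

namespace Groth.L16.Existence

open Formal (smulMod smulFamily)
open AffineBC (Xb gb η β)

variable {A : Type u} [CommRing A] {X : Scheme.{u}} [X.Over (Spec (CommRingCat.of A))] {I : Ideal A}
  (G : ℕᵒᵖ ⥤ X.Modules)

/-- The transition map of an inverse system. -/
abbrev tr (m n : ℕ) (h : m ≤ n) : G.obj (op n) ⟶ G.obj (op m) := G.map (homOfLE h).op

theorem tr_self (n : ℕ) : tr G n n le_rfl = 𝟙 _ := by
  rw [tr, show (homOfLE (le_refl n)).op = 𝟙 (op n) from Subsingleton.elim _ _, CategoryTheory.Functor.map_id]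

theorem tr_comp {l m n : ℕ} (h : l ≤ m) (h' : m ≤ n) : tr G m n h' ≫ tr G l m h = tr G l n (h.trans h') := by
  rw [tr, tr, ← Functor.map_comp]
  rfl

variable {G} (hG : Formal.IsCohFormal I G)

include hG in
theorem smul_tr {m n : ℕ} (h : m ≤ n) {a : A} (ha : a ∈ I ^ (m + 1)) :
    smulMod A (G.obj (op n)) a ≫ tr G m n h = 0 := by
  rw [Rees.smulMod_naturality, hG.2.1 m a ha, comp_zero]

include hG in
theorem epi_tr {m n : ℕ} (h : m ≤ n) : Epi (tr G m n h) := by
  induction n, h using Nat.le_induction with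
  | base => rw [tr_self]; infer_instance
  | succ k hk ih =>
    obtain ⟨h0, hiso⟩ := hG.2.2 k
    haveI := hiso
    haveI : Epi (tr G k (k + 1) (Nat.le_succ k)) := by
      rw [tr, ← cokernel.π_desc _ _ h0]
      haveI : Epi (cokernel.π (smulFamily (I ^ (k + 1)) (G.obj (op (k + 1))))) := coequalizer.π_epi
      exact @epi_comp _ _ _ _ _ _ this _ (@IsIso.epi_of_iso _ _ _ _ _ hiso)
    rw [← tr_comp G hk (Nat.le_succ k)]
    exact epi_comp _ _

include hG in
theorem exists_desc {m n : ℕ} (h : m ≤ n) {T : X.Modules} (f : G.obj (op n) ⟶ T)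
    (hf : ∀ a ∈ I ^ (m + 1), smulMod A (G.obj (op n)) a ≫ f = 0) : ∃ f', tr G m n h ≫ f' = f := by
  induction n, h using Nat.le_induction generalizing T with
  | base => exact ⟨f, by rw [tr_self, Category.id_comp]⟩
  | succ k hk ih =>
    obtain ⟨h0, hiso⟩ := hG.2.2 k
    haveI := hiso
    have hk0 : smulFamily (I ^ (k + 1)) (G.obj (op (k + 1))) ≫ f = 0 := by
      apply Sigma.hom_ext
      intro a
      rw [comp_zero, smulFamily, Sigma.ι_desc_assoc]
      exact hf a (Ideal.pow_le_pow_right (by omega) a.2)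
    let f₁ := inv (cokernel.desc _ _ h0) ≫ cokernel.desc _ f hk0
    have h1 : tr G k (k + 1) (Nat.le_succ k) ≫ f₁ = f := by
      rw [tr, ← cokernel.π_desc _ _ h0, Category.assoc, IsIso.hom_inv_id_assoc, cokernel.π_desc]
    obtain ⟨f', hf'⟩ := ih f₁ fun a ha => by
      haveI := epi_tr hG (Nat.le_succ k)
      rw [← cancel_epi (tr G k (k + 1) (Nat.le_succ k)), comp_zero, ← Category.assoc,
        ← Rees.smulMod_naturality, Category.assoc, h1]
      exact hf a ha
    exact ⟨f', by rw [← tr_comp G hk (Nat.le_succ k), Category.assoc, hf', h1]⟩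

include hG in
theorem exists_mul (m n : ℕ) (h : m ≤ n) (d : A) (hd : d ∈ I ^ (n - m)) :
    ∃ u : G.obj (op m) ⟶ G.obj (op n), tr G m n h ≫ u = smulMod A (G.obj (op n)) d := by
  refine exists_desc hG h _ fun a ha => ?_
  rw [← Rees.smulMod_mul]
  refine hG.2.1 n _ ?_
  have := Ideal.mul_mem_mul hd ha
  rwa [← pow_add, show n - m + (m + 1) = n + 1 by omega] at this

/-- Multiplication from a lower to a higher level. -/
def mul (m n : ℕ) (h : m ≤ n) (d : A) (hd : d ∈ I ^ (n - m)) : G.obj (op m) ⟶ G.obj (op n) :=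
  (exists_mul hG m n h d hd).choose

theorem tr_mul (m n : ℕ) (h : m ≤ n) (d : A) (hd : d ∈ I ^ (n - m)) :
    tr G m n h ≫ mul hG m n h d hd = smulMod A (G.obj (op n)) d :=
  (exists_mul hG m n h d hd).choose_spec

theorem mul_comp {l m n : ℕ} (h : l ≤ m) (h' : m ≤ n) (c : A) (hc : c ∈ I ^ (m - l)) (d : A)
    (hd : d ∈ I ^ (n - m)) (hdc : d * c ∈ I ^ (n - l)) :
    mul hG l m h c hc ≫ mul hG m n h' d hd = mul hG l n (h.trans h') (d * c) hdc := by
  haveI := epi_tr hG (h.trans h')
  rw [← cancel_epi (tr G l n (h.trans h')), tr_mul, ← tr_comp G h h', Category.assoc,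
    reassoc_of% tr_mul hG l m h c hc, ← Category.assoc (tr G m n h'), ← Rees.smulMod_naturality,
    Category.assoc, tr_mul, ← Rees.smulMod_mul]

include hG in
/-- Multiplication commutes with morphisms of systems. -/
theorem mul_natural {G' : ℕᵒᵖ ⥤ X.Modules} (hG' : Formal.IsCohFormal I G') (α : G' ⟶ G) (m n : ℕ) (h : m ≤ n)
    (d : A) (hd : d ∈ I ^ (n - m)) :
    mul hG' m n h d hd ≫ α.app (op n) = α.app (op m) ≫ mul hG m n h d hd := by
  haveI := epi_tr hG' h
  rw [← cancel_epi (tr G' m n h), reassoc_of% tr_mul hG' m n h d hd, Rees.smulMod_naturality,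
    ← tr_mul hG m n h d hd]
  exact (NatTrans.naturality_assoc α (homOfLE h).op _).symm

/-- The graded pieces. -/
abbrev K (G : ℕᵒᵖ ⥤ X.Modules) (n : ℕ) : X.Modules := kernel (tr G n (n + 1) (Nat.le_succ n))

/-- Multiplication into the graded pieces. -/
def μ (n : ℕ) (d : A) (hd : d ∈ I ^ (n + 1)) : G.obj (op 0) ⟶ K G n :=
  kernel.lift _ (mul hG 0 (n + 1) (Nat.zero_le _) d hd) (by
    haveI := epi_tr hG (Nat.zero_le (n + 1))
    rw [← cancel_epi (tr G 0 (n + 1) (Nat.zero_le _)), comp_zero, ← Category.assoc, tr_mul,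
      smul_tr hG _ hd])

/-- Exponents of degree `n + 1`. -/
abbrev Sn (r n : ℕ) : Type := {e : Fin r →₀ ℕ // e.degree = n + 1}

instance finite_Sn (r n : ℕ) : Finite (Sn r n) :=
  Finite.of_injective (fun e : Sn r n => fun i : Fin r =>
    (⟨e.1 i, Nat.lt_succ_of_le ((Finsupp.le_degree i e.1).trans e.2.le)⟩ : Fin (n + 2)))
    fun e e' he => Subtype.ext (Finsupp.ext fun i => congrArg Fin.val (congrFun he i))

instance fintype_Sn (r n : ℕ) : Fintype (Sn r n) := Fintype.ofFinite _

variable {r : ℕ} (a : Fin r → A) (hI : I = Ideal.span (Set.range a))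

include hI in
theorem mem_gen (i : Fin r) : a i ∈ I := hI ▸ Ideal.subset_span ⟨i, rfl⟩

/-- The generators of a graded piece. -/
def μe (n : ℕ) (e : Sn r n) : G.obj (op 0) ⟶ K G n :=
  μ hG n (aE a e.1) ((congrArg (fun k => I ^ k) e.2).le (aE_mem a (mem_gen a hI) e.1))

/-- The surjection onto a graded piece. -/
def P (n : ℕ) : (∐ fun _ : Sn r n => G.obj (op 0)) ⟶ K G n := Sigma.desc (μe hG a hI n)

theorem epi_P (n : ℕ) : Epi (P hG a hI n) := by
  let t := tr G n (n + 1) (Nat.le_succ n)
  let c := cokernel.π (P hG a hI n ≫ kernel.ι t)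
  have hc : ∀ x ∈ I ^ (n + 1), smulMod A (G.obj (op (n + 1))) x ≫ c = 0 := fun x hx => by
    have hx' := pow_le_span a hI (n + 1) hx
    induction hx' using Submodule.span_induction with
    | mem y hy =>
      obtain ⟨e, he, rfl⟩ := hy
      rw [← tr_mul hG 0 (n + 1) (Nat.zero_le _) (aE a e) hx]
      have h1 : Sigma.ι (fun _ : Sn r n => G.obj (op 0)) ⟨e, he⟩ ≫ P hG a hI n ≫ kernel.ι t =
          mul hG 0 (n + 1) (Nat.zero_le _) (aE a e) hx := by
        rw [P, Sigma.ι_desc_assoc, μe, μ]
        exact kernel.lift_ι _ _ _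
      rw [← h1]
      simp only [c, Category.assoc, cokernel.condition, comp_zero]
    | zero => rw [Rees.smulMod_zero, zero_comp]
    | add y z hy hz h1 h2 =>
      have hy' : y ∈ I ^ (n + 1) := by
        refine Ideal.span_le.2 ?_ hy
        rintro _ ⟨e, he, rfl⟩
        exact (congrArg (fun k => I ^ k) he).le (aE_mem a (mem_gen a hI) e)
      have hz' : z ∈ I ^ (n + 1) := by
        have := Ideal.sub_mem _ hx hy'
        rwa [add_sub_cancel_left] at this
      rw [HomSh.smulMod_add, Preadditive.add_comp, h1 hy', h2 hz', add_zero]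
    | smul b y hy h =>
      have hy' : y ∈ I ^ (n + 1) := by
        refine Ideal.span_le.2 ?_ hy
        rintro _ ⟨e, he, rfl⟩
        exact (congrArg (fun k => I ^ k) he).le (aE_mem a (mem_gen a hI) e)
      rw [smul_eq_mul, mul_comm, Rees.smulMod_mul, Category.assoc, h hy', comp_zero]
  obtain ⟨c', hc'⟩ := exists_desc hG (Nat.le_succ n) c hc
  have h0 : kernel.ι t ≫ c = 0 := by
    rw [← hc', ← Category.assoc, kernel.condition, zero_comp]
  let l : K G n ⟶ Abelian.image (P hG a hI n ≫ kernel.ι t) := kernel.lift _ (kernel.ι t) h0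
  have hl : l ≫ Abelian.image.ι _ = kernel.ι t := kernel.lift_ι _ _ _
  have hP : P hG a hI n ≫ l = Abelian.factorThruImage (P hG a hI n ≫ kernel.ι t) := by
    rw [← cancel_mono (Abelian.image.ι (P hG a hI n ≫ kernel.ι t)), Category.assoc, hl, Abelian.image.fac]
  haveI : Mono l := by
    haveI : Mono (l ≫ Abelian.image.ι _) := by rw [hl]; infer_instance
    exact mono_of_mono l (Abelian.image.ι _)
  haveI : Epi l := by
    haveI : Epi (P hG a hI n ≫ l) := by rw [hP]; infer_instance
    exact epi_of_epi (P hG a hI n) l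
  haveI : IsIso l := isIso_of_mono_of_epi l
  rw [show P hG a hI n = Abelian.factorThruImage (P hG a hI n ≫ kernel.ι t) ≫ inv l from
    (IsIso.eq_comp_inv l).2 hP]
  exact epi_comp _ _

variable {F : X.Modules} (f : F ⟶ G.obj (op 0))

/-- The surjection onto a graded piece from copies of `F`. -/
def Pf (n : ℕ) : (∐ fun _ : Sn r n => F) ⟶ K G n := Sigma.desc fun e => f ≫ μe hG a hI n e

theorem ι_Pf (n : ℕ) (e : Sn r n) :
    Sigma.ι (fun _ : Sn r n => F) e ≫ Pf hG a hI f n = f ≫ μe hG a hI n e := Sigma.ι_desc _ _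

theorem epi_Pf [Epi f] (n : ℕ) : Epi (Pf hG a hI f n) := by
  haveI := epi_P hG a hI n
  have h : Pf hG a hI f n = (Sigma.desc fun e => f ≫ Sigma.ι (fun _ : Sn r n => G.obj (op 0)) e) ≫ P hG a hI n := by
    apply Sigma.hom_ext
    intro e
    rw [ι_Pf, Sigma.ι_desc_assoc, P, Category.assoc, Sigma.ι_desc]
  haveI : Epi (Sigma.desc fun e : Sn r n => f ≫ Sigma.ι (fun _ : Sn r n => G.obj (op 0)) e) :=
    ⟨fun g h hgh => by
      apply Sigma.hom_ext
      intro e
      rw [← cancel_epi f, ← Category.assoc, ← Category.assoc]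
      have := congrArg (Sigma.ι (fun _ : Sn r n => F) e ≫ ·) hgh
      simpa only [Sigma.ι_desc_assoc] using this⟩
  rw [h]
  exact epi_comp _ _

/-- The multiples of the unit by monomials. -/
def φe (F : X.Modules) (e : Fin r →₀ ℕ) : F ⟶ AffineBC.G A (MvPolynomial (Fin r) A) X F :=
  η A (MvPolynomial (Fin r) A) X F ≫ β A (MvPolynomial (Fin r) A) X F (MvPolynomial.monomial e 1)

/-- The relations in degree `m`, moved to the base change. -/
def rel (m : ℕ) : (Scheme.Modules.pullback (gb A (MvPolynomial (Fin r) A) X)).obj (kernel (Pf hG a hI f m)) ⟶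
    (Scheme.Modules.pullback (gb A (MvPolynomial (Fin r) A) X)).obj F :=
  ((Scheme.Modules.pullbackPushforwardAdjunction (gb A (MvPolynomial (Fin r) A) X)).homEquiv _ _).symm
    (kernel.ι (Pf hG a hI f m) ≫ Sigma.desc fun e => φe F e.1)

theorem η_rel (m : ℕ) : η A (MvPolynomial (Fin r) A) X (kernel (Pf hG a hI f m)) ≫
    (Coh.push (gb A (MvPolynomial (Fin r) A) X)).map (rel hG a hI f m) =
      kernel.ι (Pf hG a hI f m) ≫ Sigma.desc fun e => φe F e.1 :=
  ((Scheme.Modules.pullbackPushforwardAdjunction (gb A (MvPolynomial (Fin r) A) X)).homEquiv_unit _ _ _).symm.trans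
    (Equiv.apply_symm_apply _ _)

/-- A coherent module over the polynomial base change containing all graded pieces as direct summands. -/
structure Pieces where
  /-- the module -/
  M : (Xb A (MvPolynomial (Fin r) A) X).Modules
  isCoh : Coh.IsCoh M
  /-- it is a quotient of the pullback -/
  q : (Scheme.Modules.pullback (gb A (MvPolynomial (Fin r) A) X)).obj F ⟶ M
  epi_q : Epi ((Coh.push (gb A (MvPolynomial (Fin r) A) X)).map q)
  desc_q : ∀ {T : (Xb A (MvPolynomial (Fin r) A) X).Modules} (t : _ ⟶ T),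
    (∀ m, rel hG a hI f m ≫ t = 0) → ∃ t', q ≫ t' = t
  rel_q : ∀ m, rel hG a hI f m ≫ q = 0
  /-- inclusion of a graded piece -/
  i : ∀ n, K G n ⟶ (Coh.push (gb A (MvPolynomial (Fin r) A) X)).obj M
  /-- projection to a graded piece -/
  p : ∀ n, (Coh.push (gb A (MvPolynomial (Fin r) A) X)).obj M ⟶ K G n
  i_p : ∀ n, i n ≫ p n = 𝟙 _
  Pf_i : ∀ n, Pf hG a hI f n ≫ i n =
    (Sigma.desc fun e : Sn r n => φe F e.1) ≫ (Coh.push (gb A (MvPolynomial (Fin r) A) X)).map q
  coeff_p : ∀ n (b : MvPolynomial (Fin r) A),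
    η A (MvPolynomial (Fin r) A) X F ≫ β A (MvPolynomial (Fin r) A) X F b ≫
      (Coh.push (gb A (MvPolynomial (Fin r) A) X)).map q ≫ p n =
      ∑ e : Sn r n, smulMod A F (MvPolynomial.coeff e.1 b) ≫ f ≫ μe hG a hI n e

/-- The graded pieces of a coherent formal module are direct summands of a coherent module over a
polynomial ring. -/
theorem nonempty_pieces [IsNoetherianRing A] [QuasiCompact (X ↘ Spec (CommRingCat.of A))]
    [LocallyOfFiniteType (X ↘ Spec (CommRingCat.of A))] [Epi f] (hF : Coh.IsCoh F) :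
    Nonempty (Pieces hG a hI f) := by
  classical
  let B := MvPolynomial (Fin r) A
  let g := gb A B X
  haveI : IsLocallyNoetherian X := LocallyOfFiniteType.isLocallyNoetherian (X ↘ Spec (CommRingCat.of A))
  haveI : LocallyOfFiniteType (Xb A B X ↘ Spec (CommRingCat.of B)) :=
    MorphismProperty.pullback_snd (P := @LocallyOfFiniteType) (X ↘ Spec (CommRingCat.of A)) _ inferInstance
  haveI : QuasiCompact (Xb A B X ↘ Spec (CommRingCat.of B)) :=
    MorphismProperty.pullback_snd (P := @QuasiCompact) (X ↘ Spec (CommRingCat.of A)) _ inferInstance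
  haveI : IsLocallyNoetherian (Xb A B X) :=
    LocallyOfFiniteType.isLocallyNoetherian (Xb A B X ↘ Spec (CommRingCat.of B))
  haveI : CompactSpace (Xb A B X) := QuasiCompact.compactSpace_of_compactSpace (Xb A B X ↘ Spec (CommRingCat.of B))
  haveI : AlgebraicGeometry.IsNoetherian (Xb A B X) := {}
  haveI : Coh.IsQCoh F := hF.1
  let H := (Scheme.Modules.pullback g).obj F
  have hH : Coh.IsCoh H := AffineBC.isCoh_pullback g hF
  choose c hc using fun e : Fin r →₀ ℕ => exists_functional B (X := X) F (MvPolynomial.lcoeff A e)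
  let ψ : ∀ n, AffineBC.G A B X F ⟶ K G n := fun n => ∑ e : Sn r n, c e.1 ≫ f ≫ μe hG a hI n e
  have hψ : ∀ n (b : B), η A B X F ≫ β A B X F b ≫ ψ n =
      ∑ e : Sn r n, smulMod A F (MvPolynomial.coeff e.1 b) ≫ f ≫ μe hG a hI n e := fun n b => by
    simp only [ψ, Preadditive.comp_sum]
    refine Finset.sum_congr rfl fun e _ => ?_
    rw [← Category.assoc, ← Category.assoc, Category.assoc (η A B X F), hc]
    rfl
  let R : ℕ → X.Modules := fun m => kernel (Pf hG a hI f m)
  have hR : ∀ m, Coh.IsCoh (R m) := fun m => by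
    haveI : Coh.IsQCoh (K G m) := (CohKernel.isCoh_kernel_cokernel (hG.1 (m + 1)) (hG.1 m) _).1.1
    exact CohSupport.isCoh_kernel (isCoh_sigma _ fun _ => hF) _
  let ρ : ∀ m, R m ⟶ AffineBC.G A B X F := fun m => kernel.ι (Pf hG a hI f m) ≫ Sigma.desc fun e => φe F e.1
  let adj := Scheme.Modules.pullbackPushforwardAdjunction g
  let j : ∀ m, (Scheme.Modules.pullback g).obj (R m) ⟶ H := fun m => rel hG a hI f m
  have hj : ∀ m, η A B X (R m) ≫ (Coh.push g).map (j m) = ρ m := fun m => η_rel hG a hI f m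
  -- the relations are killed by `ψ`
  have key : ∀ m n, (Coh.push g).map (j m) ≫ ψ n = 0 := by
    intro m n
    haveI : Coh.IsQCoh (R m) := (hR m).1
    refine Rees.hom_zero_of_generators X (R m) B _ fun b => ?_
    have nat : β A B X (R m) b ≫ (Coh.push g).map (j m) = (Coh.push g).map (j m) ≫ β A B X F b := by
      rw [β, β, ← Functor.map_comp, ← Functor.map_comp, Rees.smulMod_naturality]
    rw [reassoc_of% nat, reassoc_of% hj m]
    have hW : ∀ b : B, ∃ W : G.obj (op (m + 1)) ⟶ G.obj (op (n + 1)), ∀ e : Sn r m,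
        (∑ e' : Sn r n, smulMod A F (MvPolynomial.coeff e'.1 (b * MvPolynomial.monomial e.1 1)) ≫ f ≫ μe hG a hI n e') ≫
          kernel.ι _ = f ≫ μe hG a hI m e ≫ kernel.ι _ ≫ W := by
      intro b
      induction b using MvPolynomial.induction_on' with
      | monomial d x =>
        by_cases hdn : d.degree + m = n
        · refine ⟨mul hG (m + 1) (n + 1) (by omega) (aE a d)
            ((congrArg (fun k => I ^ k) (show d.degree = n + 1 - (m + 1) by omega)).le
              (aE_mem a (mem_gen a hI) d)) ≫ smulMod A _ x, fun e => ?_⟩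
          have hde : (d + e.1).degree = n + 1 := by rw [map_add, e.2]; omega
          rw [Finset.sum_eq_single (⟨d + e.1, hde⟩ : Sn r n) (fun e' _ he' => by
              rw [MvPolynomial.monomial_mul, MvPolynomial.coeff_monomial, if_neg
                (fun h => he' (Subtype.ext h.symm)), Rees.smulMod_zero, zero_comp])
            (fun h => absurd (Finset.mem_univ _) h)]
          rw [MvPolynomial.monomial_mul, MvPolynomial.coeff_monomial, if_pos rfl, mul_one, Category.assoc,
            Category.assoc, μe, μ, kernel.lift_ι, μe, μ, kernel.lift_ι_assoc, ← Category.assoc,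
            Rees.smulMod_naturality, Category.assoc, Rees.smulMod_naturality]
          rw [← Category.assoc (mul hG 0 (m + 1) _ _ _), mul_comp hG _ _ _ _ _ _
            ((congrArg (fun k => I ^ k) hde).le (aE_add a d e.1 ▸ aE_mem a (mem_gen a hI) (d + e.1)))]
          simp only [aE_add]
        · refine ⟨0, fun e => ?_⟩
          rw [Finset.sum_eq_zero fun e' _ => ?_, zero_comp, comp_zero, comp_zero, comp_zero]
          rw [MvPolynomial.monomial_mul, MvPolynomial.coeff_monomial, if_neg, Rees.smulMod_zero, zero_comp]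
          intro h
          have := congrArg Finsupp.degree h
          rw [map_add, e.2, e'.2] at this
          omega
      | add p q hp hq =>
        obtain ⟨W, hW⟩ := hp
        obtain ⟨W', hW'⟩ := hq
        refine ⟨W + W', fun e => ?_⟩
        rw [Preadditive.comp_add, Preadditive.comp_add, Preadditive.comp_add, ← hW, ← hW', ← Preadditive.add_comp,
          ← Finset.sum_add_distrib]
        congr 1
        refine Finset.sum_congr rfl fun e' _ => ?_
        rw [add_mul, MvPolynomial.coeff_add, HomSh.smulMod_add, Preadditive.add_comp]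
    obtain ⟨W, hW⟩ := hW b
    haveI : Mono (kernel.ι (tr G n (n + 1) (Nat.le_succ n))) := inferInstance
    rw [← cancel_mono (kernel.ι (tr G n (n + 1) (Nat.le_succ n))), zero_comp]
    have e2 : (Sigma.desc fun e : Sn r m => φe F e.1) ≫ β A B X F b ≫ ψ n ≫
        kernel.ι (tr G n (n + 1) (Nat.le_succ n)) = Pf hG a hI f m ≫ kernel.ι _ ≫ W := by
      apply Sigma.hom_ext
      intro e
      rw [Pf, Sigma.ι_desc_assoc, Sigma.ι_desc_assoc, Category.assoc, ← hW e, ← hψ]
      simp only [φe, Category.assoc]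
      rw [← reassoc_of% Rees.β_mul X F B b (MvPolynomial.monomial e.1 1)]
    simp only [ρ, Category.assoc]
    rw [e2, reassoc_of% kernel.condition (Pf hG a hI f m), zero_comp]
  -- finitely many relations suffice
  let D : ∀ N, (∐ fun m : Fin N => (Scheme.Modules.pullback g).obj (R m.1)) ⟶ H := fun N =>
    Sigma.desc fun m => j m.1
  have hD : ∀ N, Coh.IsCoh (∐ fun m : Fin N => (Scheme.Modules.pullback g).obj (R m.1)) := fun N =>
    isCoh_sigma _ fun m => AffineBC.isCoh_pullback g (hR m.1)
  have hQ : ∀ N, Coh.IsCoh (cokernel (D N)) := fun N => (CohKernel.isCoh_kernel_cokernel (hD N) hH _).2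
  have hjD : ∀ N m, m < N → j m ≫ cokernel.π (D N) = 0 := fun N m hm => by
    rw [show j m = Sigma.ι (fun m : Fin N => (Scheme.Modules.pullback g).obj (R m.1)) ⟨m, hm⟩ ≫ D N from
      (Sigma.ι_desc (fun m : Fin N => j m.1) ⟨m, hm⟩).symm, Category.assoc, cokernel.condition, comp_zero]
  have hmono : ∀ N N', N ≤ N' → kernelSubobject (cokernel.π (D N)) ≤ kernelSubobject (cokernel.π (D N')) := by
    intro N N' h
    have h0 : D N ≫ cokernel.π (D N') = 0 := by
      apply Sigma.hom_ext
      intro m
      rw [Sigma.ι_desc_assoc, comp_zero]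
      exact hjD N' m.1 (m.2.trans_le h)
    rw [← cokernel.π_desc (D N) (cokernel.π (D N')) h0]
    exact kernelSubobject_comp_le _ _
  obtain ⟨N, hN⟩ := Acc.exists_stable H hH
    ⟨fun N => kernelSubobject (cokernel.π (D N)), fun N N' h => hmono N N' h⟩ fun N =>
      (CohSupport.isCoh_of_iso (kernelSubobjectIso (cokernel.π (D N))).symm
        (CohKernel.isCoh_kernel_cokernel hH (hQ N) _).1).1
  have hjN : ∀ m, j m ≫ cokernel.π (D N) = 0 := fun m => by
    by_cases hm : m < N
    · exact hjD N m hm
    · have h1 : (kernelSubobject (cokernel.π (D (m + 1)))).Factors (j m) :=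
        (kernelSubobject_factors_iff _ _).2 (hjD (m + 1) m (Nat.lt_succ_self m))
      have h2 : kernelSubobject (cokernel.π (D (m + 1))) = kernelSubobject (cokernel.π (D N)) :=
        hN (m + 1) (by omega)
      rw [h2] at h1
      exact (kernelSubobject_factors_iff _ _).1 h1
  haveI : (Coh.push g).Additive := adj.right_adjoint_additive
  have hDψ : ∀ n, (Coh.push g).map (D N) ≫ ψ n = 0 := fun n => by
    have hid : D N = ∑ m : Fin N, (Sigma.desc fun i : Fin N =>
        if h : i = m then eqToHom (congrArg (fun t : Fin N => (Scheme.Modules.pullback g).obj (R t.1)) h) else 0) ≫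
          j m.1 := by
      refine Sigma.hom_ext _ _ fun i => ?_
      rw [Preadditive.comp_sum, Finset.sum_eq_single i]
      · simp [D]
      · intro m _ hm
        simp [Ne.symm hm]
      · simp
    rw [hid, Functor.map_sum, Preadditive.sum_comp]
    refine Finset.sum_eq_zero fun m _ => ?_
    rw [Functor.map_comp, Category.assoc, key, comp_zero]
  choose ψ' hψ' using fun n => exists_desc_push g (hD N) hH (D N) (ψ n) (hDψ n)
  have hS : ∀ n, kernel.ι (Pf hG a hI f n) ≫
      (Sigma.desc fun e : Sn r n => φe F e.1) ≫ (Coh.push g).map (cokernel.π (D N)) = 0 := fun n => by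
    rw [← Category.assoc, show kernel.ι (Pf hG a hI f n) ≫ (Sigma.desc fun e : Sn r n => φe F e.1) = ρ n from rfl,
      ← hj n, Category.assoc, ← Functor.map_comp, hjN n, Functor.map_zero, comp_zero]
  haveI hPf : ∀ n, Epi (Pf hG a hI f n) := epi_Pf hG a hI f
  refine ⟨{ M := cokernel (D N), isCoh := hQ N, q := cokernel.π (D N), epi_q := epi_push g hH (hQ N) _,
            desc_q := fun t ht => ⟨cokernel.desc _ t (Sigma.hom_ext _ _ fun m => by
              rw [Sigma.ι_desc_assoc, comp_zero]; exact ht m.1), cokernel.π_desc _ _ _⟩,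
            rel_q := hjN, i := fun n => Abelian.epiDesc (Pf hG a hI f n) _ (hS n), p := ψ',
            i_p := fun n => ?_, Pf_i := fun n => Abelian.comp_epiDesc _ _ _,
            coeff_p := fun n b => by rw [hψ' n]; exact hψ n b }⟩
  rw [← cancel_epi (Pf hG a hI f n), ← Category.assoc, Abelian.comp_epiDesc, Category.comp_id]
  apply Sigma.hom_ext
  intro e
  rw [Category.assoc, hψ' n, Sigma.ι_desc_assoc, ι_Pf]
  simp only [φe, Category.assoc]
  rw [hψ, Finset.sum_eq_single e (fun e' _ he' => by
      rw [MvPolynomial.coeff_monomial, if_neg (fun h => he' (Subtype.ext h.symm)), Rees.smulMod_zero, zero_comp])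
    (fun h => absurd (Finset.mem_univ _) h), MvPolynomial.coeff_monomial, if_pos rfl, Rees.smulMod_one,
    Category.id_comp]

end Groth.L16.Existence
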