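import Groth.Agent.L16.Existence.Graded

/-!
The kernels on graded pieces of a morphism of coherent formal modules: they are direct summands of one coherent
module, and generated in bounded degree.
-/

set_option autoImplicit false
set_option linter.style.haveILetI false
set_option backward.isDefEq.respectTransparency false
set_option backward.isDefEq.respectTransparency.types false

universe u

open CategoryTheory CategoryTheory.Limits AlgebraicGeometry TopologicalSpace Opposite

noncomputable section

namespace Groth.L16.Existence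

open Formal (smulMod)
open AffineBC (Xb gb η β)

variable {A : Type u} [CommRing A] {X : Scheme.{u}} [X.Over (Spec (CommRingCat.of A))] {I : Ideal A}
  {G G' : ℕᵒᵖ ⥤ X.Modules} (hG : Formal.IsCohFormal I G) (hG' : Formal.IsCohFormal I G') (α : G' ⟶ G)

/-- The map of graded pieces. -/
def γ (n : ℕ) : K G' n ⟶ K G n :=
  kernel.lift _ (kernel.ι _ ≫ α.app (op (n + 1))) (by
    rw [Category.assoc, ← α.naturality (homOfLE (Nat.le_succ n)).op, ← Category.assoc,
      show kernel.ι (tr G' n (n + 1) (Nat.le_succ n)) ≫ G'.map (homOfLE (Nat.le_succ n)).op = 0 from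
        kernel.condition _, zero_comp])

theorem γ_ι (n : ℕ) : γ α n ≫ kernel.ι _ = kernel.ι _ ≫ α.app (op (n + 1)) := kernel.lift_ι _ _ _

/-- The kernel on graded pieces. -/
abbrev L (n : ℕ) : X.Modules := kernel (γ α n)

variable {r : ℕ} (a : Fin r → A) (hI : I = Ideal.span (Set.range a)) {F : X.Modules} (f : F ⟶ G'.obj (op 0))

include hG in
theorem μe_γ (n : ℕ) (e : Sn r n) : μe hG' a hI n e ≫ γ α n = α.app (op 0) ≫ μe hG a hI n e := by
  rw [← cancel_mono (kernel.ι (tr G n (n + 1) (Nat.le_succ n))), Category.assoc, γ_ι, ← Category.assoc,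
    μe, μ, kernel.lift_ι, Category.assoc, μe, μ, kernel.lift_ι, mul_natural hG hG' α]

include hG in
theorem Pf_γ (n : ℕ) : Pf hG' a hI f n ≫ γ α n = Pf hG a hI (f ≫ α.app (op 0)) n := by
  apply Sigma.hom_ext
  intro e
  rw [← Category.assoc, ι_Pf, ι_Pf, Category.assoc, μe_γ hG hG' α, Category.assoc]

theorem sum_monomial_ι (d : Fin r →₀ ℕ) (x : A) {k m : ℕ} (e : Sn r k) (h : d.degree + k = m) :
    (∑ e' : Sn r m, smulMod A F (MvPolynomial.coeff e'.1 (MvPolynomial.monomial d x * MvPolynomial.monomial e.1 1)) ≫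
        f ≫ μe hG' a hI m e') ≫ kernel.ι _ =
      f ≫ μe hG' a hI k e ≫ kernel.ι _ ≫ mul hG' (k + 1) (m + 1) (by omega) (aE a d)
        ((congrArg (fun k => I ^ k) (show d.degree = m + 1 - (k + 1) by omega)).le
          (aE_mem a (mem_gen a hI) d)) ≫ smulMod A _ x := by
  have hde : (d + e.1).degree = m + 1 := by rw [map_add, e.2]; omega
  rw [Finset.sum_eq_single (⟨d + e.1, hde⟩ : Sn r m) (fun e' _ he' => by
      rw [MvPolynomial.monomial_mul, MvPolynomial.coeff_monomial, if_neg
        (fun h => he' (Subtype.ext h.symm)), Rees.smulMod_zero, zero_comp])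
    (fun h => absurd (Finset.mem_univ _) h)]
  rw [MvPolynomial.monomial_mul, MvPolynomial.coeff_monomial, if_pos rfl, mul_one, Category.assoc,
    Category.assoc, μe, μ, kernel.lift_ι, μe, μ, kernel.lift_ι_assoc, ← Category.assoc,
    Rees.smulMod_naturality, Category.assoc, Rees.smulMod_naturality]
  rw [← Category.assoc (mul hG' 0 (k + 1) _ _ _), mul_comp hG' _ _ _ _ _ _
    ((congrArg (fun k => I ^ k) hde).le (aE_add a d e.1 ▸ aE_mem a (mem_gen a hI) (d + e.1)))]
  simp only [aE_add]

theorem sum_monomial_zero (d : Fin r →₀ ℕ) (x : A) {k m : ℕ} (e : Sn r k) (h : d.degree + k ≠ m) :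
    (∑ e' : Sn r m, smulMod A F (MvPolynomial.coeff e'.1 (MvPolynomial.monomial d x * MvPolynomial.monomial e.1 1)) ≫
        f ≫ μe hG' a hI m e') = 0 := by
  refine Finset.sum_eq_zero fun e' _ => ?_
  rw [MvPolynomial.monomial_mul, MvPolynomial.coeff_monomial, if_neg, Rees.smulMod_zero, zero_comp]
  intro hc
  have := congrArg Finsupp.degree hc
  rw [map_add, e.2, e'.2] at this
  omega

variable [IsNoetherianRing A] [QuasiCompact (X ↘ Spec (CommRingCat.of A))]
  [LocallyOfFiniteType (X ↘ Spec (CommRingCat.of A))]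

include hG hG' hI in
/-- The kernels on graded pieces are direct summands of one coherent module and are generated in bounded degree. -/
theorem exists_kernel_pieces (hF : Coh.IsCoh F) [Epi f] [Epi (f ≫ α.app (op 0))] :
    ∃ M : (Xb A (MvPolynomial (Fin r) A) X).Modules, Coh.IsCoh M ∧
      (∀ n : ℕ, ∃ (i : L α n ⟶ (Coh.push (gb A (MvPolynomial (Fin r) A) X)).obj M) (p : _ ⟶ L α n),
        i ≫ p = 𝟙 _) ∧
      ∃ c : ℕ, ∀ m, c ≤ m → ∀ {T : X.Modules} (t : G'.obj (op (m + 1)) ⟶ T),
        (∀ k, k < c → ∀ (hk : k + 1 ≤ m + 1) (d : A) (hd : d ∈ I ^ (m + 1 - (k + 1))),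
          kernel.ι (γ α k) ≫ kernel.ι _ ≫ mul hG' (k + 1) (m + 1) hk d hd ≫ t = 0) →
        kernel.ι (γ α m) ≫ kernel.ι _ ≫ t = 0 := by
  classical
  let B := MvPolynomial (Fin r) A
  let g := gb A B X
  let adj := Scheme.Modules.pullbackPushforwardAdjunction g
  haveI : (Coh.push g).Additive := adj.right_adjoint_additive
  haveI : (Coh.push g).IsRightAdjoint := adj.isRightAdjoint
  haveI : IsLocallyNoetherian X := LocallyOfFiniteType.isLocallyNoetherian (X ↘ Spec (CommRingCat.of A))
  haveI : LocallyOfFiniteType (Xb A B X ↘ Spec (CommRingCat.of B)) :=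
    MorphismProperty.pullback_snd (P := @LocallyOfFiniteType) (X ↘ Spec (CommRingCat.of A)) _ inferInstance
  haveI : QuasiCompact (Xb A B X ↘ Spec (CommRingCat.of B)) :=
    MorphismProperty.pullback_snd (P := @QuasiCompact) (X ↘ Spec (CommRingCat.of A)) _ inferInstance
  haveI : IsLocallyNoetherian (Xb A B X) :=
    LocallyOfFiniteType.isLocallyNoetherian (Xb A B X ↘ Spec (CommRingCat.of B))
  haveI : CompactSpace (Xb A B X) := QuasiCompact.compactSpace_of_compactSpace (Xb A B X ↘ Spec (CommRingCat.of B))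
  haveI : AlgebraicGeometry.IsNoetherian (Xb A B X) := {}
  obtain ⟨D'⟩ := nonempty_pieces hG' a hI f hF
  obtain ⟨D⟩ := nonempty_pieces hG a hI (f ≫ α.app (op 0)) hF
  haveI := D'.epi_q
  obtain ⟨γb, hγb⟩ := D'.desc_q D.q fun m => by
    let l : kernel (Pf hG' a hI f m) ⟶ kernel (Pf hG a hI (f ≫ α.app (op 0)) m) :=
      kernel.lift _ (kernel.ι _) (by rw [← Pf_γ hG hG' α a hI f, reassoc_of% kernel.condition (Pf hG' a hI f m),
        zero_comp])
    have hl : rel hG' a hI f m = (Scheme.Modules.pullback g).map l ≫ rel hG a hI (f ≫ α.app (op 0)) m := by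
      rw [rel, rel, ← Adjunction.homEquiv_naturality_left_symm, ← Category.assoc, kernel.lift_ι]
    rw [hl, Category.assoc, D.rel_q, comp_zero]
  have hp : ∀ n, (Coh.push g).map γb ≫ D.p n = D'.p n ≫ γ α n := fun n => by
    rw [← cancel_epi ((Coh.push g).map D'.q), ← Category.assoc, ← Functor.map_comp, hγb]
    haveI : Coh.IsQCoh F := hF.1
    rw [← sub_eq_zero]
    refine Rees.hom_zero_of_generators X F B _ fun b => ?_
    rw [Preadditive.comp_sub, Preadditive.comp_sub, sub_eq_zero, D.coeff_p,
      reassoc_of% D'.coeff_p n b, Preadditive.sum_comp]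
    refine Finset.sum_congr rfl fun e _ => ?_
    rw [Category.assoc, Category.assoc, Category.assoc, μe_γ hG hG' α]
  have hi : ∀ n, D'.i n ≫ (Coh.push g).map γb = γ α n ≫ D.i n := fun n => by
    haveI := epi_Pf hG' a hI f n
    rw [← cancel_epi (Pf hG' a hI f n), reassoc_of% D'.Pf_i n, ← Functor.map_comp, hγb,
      ← Category.assoc, Pf_γ hG hG' α, D.Pf_i]
  let ML := kernel γb
  have hML : Coh.IsCoh ML := (CohKernel.isCoh_kernel_cokernel D'.isCoh D.isCoh γb).1
  haveI : Mono ((Coh.push g).map (kernel.ι γb)) := inferInstance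
  let kIso := PreservesKernel.iso (Coh.push g) γb
  let iL : ∀ n, L α n ⟶ (Coh.push g).obj ML := fun n =>
    kernel.lift ((Coh.push g).map γb) (kernel.ι (γ α n) ≫ D'.i n) (by
      rw [Category.assoc, hi, ← Category.assoc, kernel.condition, zero_comp]) ≫ kIso.inv
  let pL : ∀ n, (Coh.push g).obj ML ⟶ L α n := fun n =>
    kernel.lift (γ α n) ((Coh.push g).map (kernel.ι γb) ≫ D'.p n) (by
      rw [Category.assoc, ← hp, ← Category.assoc, ← Functor.map_comp, kernel.condition, Functor.map_zero,
        zero_comp])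
  have hiLι : ∀ n, iL n ≫ (Coh.push g).map (kernel.ι γb) = kernel.ι (γ α n) ≫ D'.i n := fun n => by
    simp only [iL, Category.assoc, kIso, PreservesKernel.iso_inv_ι, kernel.lift_ι]
  refine ⟨ML, hML, fun n => ⟨iL n, pL n, ?_⟩, ?_⟩
  · rw [← cancel_mono (kernel.ι (γ α n)), Category.assoc, kernel.lift_ι, reassoc_of% hiLι n, D'.i_p,
      Category.comp_id, Category.id_comp]
  let j : ∀ n, (Scheme.Modules.pullback g).obj (L α n) ⟶ ML := fun n => (adj.homEquiv _ _).symm (iL n)
  have hj : ∀ n, η A B X (L α n) ≫ (Coh.push g).map (j n) = iL n := fun n =>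
    (adj.homEquiv_unit _ _ _).symm.trans (Equiv.apply_symm_apply _ _)
  have hK : ∀ n, Coh.IsCoh (K G n) ∧ Coh.IsCoh (K G' n) := fun n =>
    ⟨(CohKernel.isCoh_kernel_cokernel (hG.1 (n + 1)) (hG.1 n) _).1,
      (CohKernel.isCoh_kernel_cokernel (hG'.1 (n + 1)) (hG'.1 n) _).1⟩
  have hL : ∀ n, Coh.IsCoh (L α n) := fun n => (CohKernel.isCoh_kernel_cokernel (hK n).2 (hK n).1 _).1
  let Dj : ∀ N, (∐ fun k : Fin N => (Scheme.Modules.pullback g).obj (L α k.1)) ⟶ ML := fun N =>
    Sigma.desc fun k => j k.1
  have hDj : ∀ N, Coh.IsCoh (∐ fun k : Fin N => (Scheme.Modules.pullback g).obj (L α k.1)) := fun N =>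
    isCoh_sigma _ fun k => AffineBC.isCoh_pullback g (hL k.1)
  have hjD : ∀ N k, k < N → j k ≫ cokernel.π (Dj N) = 0 := fun N k hk => by
    rw [show j k = Sigma.ι (fun k : Fin N => (Scheme.Modules.pullback g).obj (L α k.1)) ⟨k, hk⟩ ≫ Dj N from
      (Sigma.ι_desc (fun k : Fin N => j k.1) ⟨k, hk⟩).symm, Category.assoc, cokernel.condition, comp_zero]
  have hmono : ∀ N N', N ≤ N' → kernelSubobject (cokernel.π (Dj N)) ≤ kernelSubobject (cokernel.π (Dj N')) := by
    intro N N' h
    have h0 : Dj N ≫ cokernel.π (Dj N') = 0 := by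
      apply Sigma.hom_ext
      intro m
      rw [Sigma.ι_desc_assoc, comp_zero]
      exact hjD N' m.1 (m.2.trans_le h)
    rw [← cokernel.π_desc (Dj N) (cokernel.π (Dj N')) h0]
    exact kernelSubobject_comp_le _ _
  obtain ⟨c, hc⟩ := Acc.exists_stable ML hML
    ⟨fun N => kernelSubobject (cokernel.π (Dj N)), fun N N' h => hmono N N' h⟩ fun N =>
      (CohSupport.isCoh_of_iso (kernelSubobjectIso (cokernel.π (Dj N))).symm
        (CohKernel.isCoh_kernel_cokernel hML (CohKernel.isCoh_kernel_cokernel (hDj N) hML _).2 _).1).1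
  have hjc : ∀ k, j k ≫ cokernel.π (Dj c) = 0 := fun k => by
    by_cases hk : k < c
    · exact hjD c k hk
    · have h1 : (kernelSubobject (cokernel.π (Dj (k + 1)))).Factors (j k) :=
        (kernelSubobject_factors_iff _ _).2 (hjD (k + 1) k (Nat.lt_succ_self k))
      have h2 : kernelSubobject (cokernel.π (Dj (k + 1))) = kernelSubobject (cokernel.π (Dj c)) :=
        hc (k + 1) (by omega)
      rw [h2] at h1
      exact (kernelSubobject_factors_iff _ _).1 h1
  refine ⟨c, fun m hm T t ht => ?_⟩
  let Z : (Coh.push g).obj ML ⟶ T := (Coh.push g).map (kernel.ι γb) ≫ D'.p m ≫ kernel.ι _ ≫ t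
  -- the generators in low degree are killed
  have hlow : ∀ k, k < c → (Coh.push g).map (j k) ≫ Z = 0 := fun k hk => by
    haveI : Coh.IsQCoh (L α k) := (hL k).1
    refine Rees.hom_zero_of_generators X (L α k) B _ fun b => ?_
    have nat : β A B X (L α k) b ≫ (Coh.push g).map (j k) = (Coh.push g).map (j k) ≫
        (Coh.push g).map (smulMod B ML b) := by
      rw [β, ← Functor.map_comp, ← Functor.map_comp, Rees.smulMod_naturality]
    have nat2 : (Coh.push g).map (smulMod B ML b) ≫ (Coh.push g).map (kernel.ι γb) =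
        (Coh.push g).map (kernel.ι γb) ≫ (Coh.push g).map (smulMod B D'.M b) := by
      rw [← Functor.map_comp, ← Functor.map_comp, Rees.smulMod_naturality]
    simp only [Z]
    rw [reassoc_of% nat, reassoc_of% hj k, reassoc_of% nat2, reassoc_of% hiLι k]
    clear nat nat2
    induction b using MvPolynomial.induction_on' with
    | monomial d x =>
      have key : D'.i k ≫ (Coh.push g).map (smulMod B D'.M (MvPolynomial.monomial d x)) ≫ D'.p m ≫
          kernel.ι (tr G' m (m + 1) (Nat.le_succ m)) =
          if h : d.degree + k = m then kernel.ι _ ≫ mul hG' (k + 1) (m + 1) (by omega) (aE a d)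
            ((congrArg (fun k => I ^ k) (show d.degree = m + 1 - (k + 1) by omega)).le
              (aE_mem a (mem_gen a hI) d)) ≫ smulMod A _ x else 0 := by
        haveI := epi_Pf hG' a hI f k
        rw [← cancel_epi (Pf hG' a hI f k), reassoc_of% D'.Pf_i k]
        apply Sigma.hom_ext
        intro e
        rw [Sigma.ι_desc_assoc, ← Category.assoc ((Coh.push g).map D'.q), ← Functor.map_comp,
          ← Rees.smulMod_naturality, Functor.map_comp, ← Category.assoc (Sigma.ι _ e) (Pf hG' a hI f k), ι_Pf]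
        simp only [φe, Category.assoc]
        rw [← reassoc_of% Rees.β_mul X F B (MvPolynomial.monomial d x) (MvPolynomial.monomial e.1 1),
          reassoc_of% D'.coeff_p m (MvPolynomial.monomial d x * MvPolynomial.monomial e.1 1)]
        split_ifs with h
        · exact sum_monomial_ι hG' a hI f d x e h
        · rw [sum_monomial_zero hG' a hI f d x e h, zero_comp, comp_zero, comp_zero]
      rw [reassoc_of% key]
      split_ifs with h
      · rw [Category.assoc, Category.assoc, ← Category.assoc (mul hG' _ _ _ _ _), ← Rees.smulMod_naturality,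
          Category.assoc, ← Category.assoc (kernel.ι (tr G' k (k + 1) _)), ← Rees.smulMod_naturality,
          Category.assoc, ← Category.assoc (kernel.ι (γ α k)), ← Rees.smulMod_naturality, Category.assoc,
          ht k hk _ _ _, comp_zero]
      · rw [zero_comp, comp_zero]
    | add p q hp hq =>
      rw [HomSh.smulMod_add, Functor.map_add]
      simp only [Preadditive.add_comp, Preadditive.comp_add, hp, hq, add_zero]
  have hDZ : (Coh.push g).map (Dj c) ≫ Z = 0 := by
    have hid : Dj c = ∑ k : Fin c, (Sigma.desc fun i : Fin c =>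
        if h : i = k then eqToHom (congrArg (fun t : Fin c => (Scheme.Modules.pullback g).obj (L α t.1)) h) else 0) ≫
          j k.1 := by
      refine Sigma.hom_ext _ _ fun i => ?_
      rw [Preadditive.comp_sum, Finset.sum_eq_single i]
      · simp [Dj]
      · intro k _ hk
        simp [Ne.symm hk]
      · simp
    rw [hid, Functor.map_sum, Preadditive.sum_comp]
    refine Finset.sum_eq_zero fun k _ => ?_
    rw [Functor.map_comp, Category.assoc, hlow k.1 k.2, comp_zero]
  have hjm : (Coh.push g).map (j m) ≫ Z = 0 := by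
    let l := kernel.lift _ (j m) (hjc m)
    have hl : j m = l ≫ Abelian.image.ι (Dj c) := (kernel.lift_ι _ _ _).symm
    haveI : Coh.IsQCoh ML := hML.1
    haveI := epi_push g (hDj c) (CohSupport.isCoh_image (hDj c) (Dj c)) (Abelian.factorThruImage (Dj c))
    have h0 : (Coh.push g).map (Abelian.image.ι (Dj c)) ≫ Z = 0 := by
      rw [← cancel_epi ((Coh.push g).map (Abelian.factorThruImage (Dj c))), ← Category.assoc, ← Functor.map_comp,
        Abelian.image.fac, hDZ, comp_zero]
    rw [hl, Functor.map_comp, Category.assoc, h0, comp_zero]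
  have h := congrArg (η A B X (L α m) ≫ ·) hjm
  simp only [Z, comp_zero, reassoc_of% hj m, reassoc_of% hiLι m, reassoc_of% D'.i_p m] at h
  exact h

end Groth.L16.Existence
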